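import Cfsg.Agent.SpecBlow.SwapPerms

/-! Stabilisers of uniform partitions in symmetric and alternating groups. -/

set_option autoImplicit false
set_option linter.unusedSectionVars false

namespace CfsgLib.BlockMax

open Equiv Equiv.Perm

variable {Ω β : Type*}

/-- The stabiliser of the partition into fibres of `f`. -/
def blockGrp (f : Ω → β) : Subgroup (Perm Ω) :=
  Subgroup.closure {g : Perm Ω | ∀ x y : Ω, f x = f y ↔ f (g x) = f (g y)}

theorem mem_iff {f : Ω → β} {g : Perm Ω} :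
    g ∈ blockGrp f ↔ ∀ x y : Ω, f x = f y ↔ f (g x) = f (g y) := by
  refine ⟨fun hg => ?_, fun h => Subgroup.subset_closure h⟩
  induction hg using Subgroup.closure_induction with
  | mem x hx => exact hx
  | one => exact fun x y => Iff.rfl
  | mul a b _ _ ha hb => exact fun x y => (hb x y).trans (ha _ _)
  | inv a _ ha =>
    intro x y
    have := ha (a⁻¹ x) (a⁻¹ y)
    rw [Perm.inv_def, a.apply_symm_apply, a.apply_symm_apply] at this
    exact this.symm

section Lift

variable [Fintype Ω] [DecidableEq Ω] {a b : ℕ} {f : Ω → Fin b}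
  (hf : ∀ i : Fin b, Nat.card {x : Ω // f x = i} = a)

theorem swap_mem {u v : Ω} (h : f u = f v) : swap u v ∈ blockGrp f := by
  rw [mem_iff]
  have key : ∀ z, f (swap u v z) = f z := by
    intro z
    rcases eq_or_ne z u with rfl | h1
    · rw [swap_apply_left, h]
    rcases eq_or_ne z v with rfl | h2
    · rw [swap_apply_right, h]
    rw [swap_apply_of_ne_of_ne h1 h2]
  intro x y
  rw [key, key]

include hf

/-- Coordinates adapted to the partition. -/
theorem exists_coord : ∃ e : Ω ≃ Fin b × Fin a, ∀ x, (e x).1 = f x := by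
  have hc : ∀ i, Fintype.card {x : Ω // f x = i} = a := fun i => by
    rw [← Nat.card_eq_fintype_card, hf]
  refine ⟨(Equiv.sigmaFiberEquiv f).symm.trans ((Equiv.sigmaCongrRight fun i =>
    Fintype.equivFinOfCardEq (hc i)).trans (Equiv.sigmaEquivProd _ _)), fun x => rfl⟩

theorem exists_lift (π : Perm (Fin b)) : ∃ w ∈ blockGrp f, ∀ x, f (w x) = π (f x) := by
  obtain ⟨e, he⟩ := exists_coord hf
  have key : ∀ x, f ((e.trans ((π.prodCongr (Equiv.refl _)).trans e.symm)) x) = π (f x) := fun x => by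
    rw [← he, ← he]
    simp
  refine ⟨_, ?_, key⟩
  rw [mem_iff]
  intro x y
  rw [key, key, π.apply_eq_iff_eq]

theorem exists_lift_pair {u v x y : Ω} (huv : f u ≠ f v) (hxy : f x ≠ f y) :
    ∃ w ∈ blockGrp f, f (w u) = f x ∧ f (w v) = f y := by
  set p := swap (f u) (f x) with hp
  have h1 : p (f v) ≠ f x := by
    intro h
    rw [← swap_apply_left (f u) (f x), ← hp, p.apply_eq_iff_eq] at h
    exact huv h.symm
  obtain ⟨w, hw, hwπ⟩ := exists_lift hf (swap (p (f v)) (f y) * p)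
  refine ⟨w, hw, ?_, ?_⟩
  · rw [hwπ, Perm.mul_apply, hp, swap_apply_left]
    exact swap_apply_of_ne_of_ne (hp ▸ h1).symm hxy
  · rw [hwπ, Perm.mul_apply, swap_apply_left]

theorem exists_partner (ha : 2 ≤ a) (x : Ω) : ∃ x', x' ≠ x ∧ f x' = f x := by
  classical
  have : 1 < Fintype.card {z : Ω // f z = f x} := by
    rw [← Nat.card_eq_fintype_card, hf]; omega
  obtain ⟨⟨z, hz⟩, hne⟩ := Fintype.exists_ne_of_one_lt_card this ⟨x, rfl⟩
  exact ⟨z, fun h => hne (Subtype.ext h), hz⟩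

theorem exists_third (ha : 3 ≤ a) (x x' : Ω) : ∃ z, z ≠ x ∧ z ≠ x' ∧ f z = f x := by
  classical
  by_contra h
  push Not at h
  have hsub : (Finset.univ.filter fun z => f z = f x) ⊆ {x, x'} := by
    intro z hz
    simp only [Finset.mem_filter, Finset.mem_univ, true_and] at hz
    simp only [Finset.mem_insert, Finset.mem_singleton]
    by_cases h1 : z = x
    · exact Or.inl h1
    by_cases h2 : z = x'
    · exact Or.inr h2
    exact absurd hz (h z h1 h2)
  have h2 := (Finset.card_le_card hsub).trans Finset.card_le_two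
  rw [← Fintype.card_subtype, ← Nat.card_eq_fintype_card, hf] at h2
  omega

theorem exists_outside (ha : 1 ≤ a) (i : Fin b) : ∃ z, f z = i := by
  have : Nonempty {z : Ω // f z = i} := (Nat.card_pos_iff.1 (by rw [hf]; omega)).1
  exact ⟨this.some.1, this.some.2⟩

/-- The partition stabiliser is maximal in the symmetric group. -/
theorem isCoatom_blockGrp (ha : 2 ≤ a) (hb : 2 ≤ b) : IsCoatom (blockGrp f) := by
  refine ⟨fun htop => ?_, fun L hL => ?_⟩
  · obtain ⟨u, hu⟩ := exists_outside hf (by omega) (⟨0, by omega⟩ : Fin b)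
    obtain ⟨v, hv⟩ := exists_outside hf (by omega) (⟨1, by omega⟩ : Fin b)
    obtain ⟨u', hu', huu⟩ := exists_partner hf ha u
    have hne : f u ≠ f v := by rw [hu, hv]; simp
    have huv : u ≠ v := fun h => hne (congrArg f h)
    have h := (mem_iff.1 (htop ▸ Subgroup.mem_top (swap u v) : swap u v ∈ blockGrp f) u u').1 huu.symm
    rw [swap_apply_left, swap_apply_of_ne_of_ne hu' (fun h => hne (by rw [← huu, h]))] at h
    exact hne (huu ▸ h.symm)
  obtain ⟨hle, h, hhL, hhW⟩ := SetLike.lt_iff_le_and_exists.1 hL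
  rw [mem_iff] at hhW
  push Not at hhW
  obtain ⟨x, y, hxy⟩ := hhW
  have conj : ∀ g ∈ L, ∀ p q, swap p q ∈ L → swap (g p) (g q) ∈ L := fun g hg p q hpq => by
    rw [swap_apply_apply]; exact L.mul_mem (L.mul_mem hg hpq) (L.inv_mem hg)
  obtain ⟨p, q, hpq, hmem⟩ : ∃ p q, f p ≠ f q ∧ swap p q ∈ L := by
    rcases hxy with ⟨h1, h2⟩ | ⟨h1, h2⟩
    · exact ⟨h x, h y, h2, conj h hhL x y (hle (swap_mem h1))⟩
    · refine ⟨x, y, h1, ?_⟩
      have := conj h⁻¹ (L.inv_mem hhL) (h x) (h y) (hle (swap_mem h2))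
      rwa [Perm.inv_def, h.symm_apply_apply, h.symm_apply_apply] at this
  have hR : ∀ u v, swap u v ∈ L := by
    intro u v
    by_cases huv : f u = f v
    · exact hle (swap_mem huv)
    obtain ⟨w, hw, hwp, hwq⟩ := exists_lift_pair hf hpq huv
    have h1 := conj w (hle hw) p q hmem
    have h2 := conj _ (hle (swap_mem hwp)) _ _ h1
    rw [swap_apply_left] at h2
    have h3 : swap (w p) u (w q) = w q :=
      swap_apply_of_ne_of_ne (fun e => huv (by rw [← hwp, ← hwq, e]))
        (fun e => huv (by rw [← hwq, e]))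
    rw [h3] at h2
    have h4 := conj _ (hle (swap_mem hwq)) _ _ h2
    rw [swap_apply_left, swap_apply_of_ne_of_ne (fun e => huv (by rw [← hwq, e]))
      (fun e => huv (congrArg f e))] at h4
    exact h4
  rw [eq_top_iff, ← closure_isSwap, Subgroup.closure_le]
  rintro _ ⟨u, v, -, rfl⟩
  exact hR u v

end Lift

/-- The cycle `p → q → r → p`. -/
def c3 [DecidableEq Ω] (p q r : Ω) : Perm Ω := swap p q * swap q r

section Three

variable [Fintype Ω] [DecidableEq Ω]

theorem c3_conj (g : Perm Ω) (p q r : Ω) : g * c3 p q r * g⁻¹ = c3 (g p) (g q) (g r) := by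
  rw [c3, c3, swap_apply_apply, swap_apply_apply]
  simp [mul_assoc]

theorem c3_apply {p q r : Ω} (h1 : p ≠ q) (h2 : p ≠ r) (h3 : q ≠ r) :
    c3 p q r p = q ∧ c3 p q r q = r ∧ c3 p q r r = p ∧
      ∀ z, z ≠ p → z ≠ q → z ≠ r → c3 p q r z = z := by
  refine ⟨?_, ?_, ?_, fun z hp hq hr => ?_⟩
  · rw [c3, Perm.mul_apply, swap_apply_of_ne_of_ne h1 h2, swap_apply_left]
  · rw [c3, Perm.mul_apply, swap_apply_left, swap_apply_of_ne_of_ne h2.symm h3.symm]
  · rw [c3, Perm.mul_apply, swap_apply_right, swap_apply_right]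
  · rw [c3, Perm.mul_apply, swap_apply_of_ne_of_ne hq hr, swap_apply_of_ne_of_ne hp hq]

theorem c3_rot {p q r : Ω} (h1 : p ≠ q) (h2 : p ≠ r) (h3 : q ≠ r) : c3 p q r = c3 q r p := by
  obtain ⟨a1, a2, a3, a4⟩ := c3_apply h1 h2 h3
  obtain ⟨b1, b2, b3, b4⟩ := c3_apply h3 h1.symm h2.symm
  ext z
  rcases eq_or_ne z p with rfl | hp
  · rw [a1, b3]
  rcases eq_or_ne z q with rfl | hq
  · rw [a2, b1]
  rcases eq_or_ne z r with rfl | hr
  · rw [a3, b2]
  rw [a4 z hp hq hr, b4 z hq hr hp]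

theorem c3_mul {p q r y : Ω} (h1 : p ≠ q) (h2 : p ≠ r) (h3 : q ≠ r) (hp : y ≠ p) (hq : y ≠ q)
    (hr : y ≠ r) : c3 p q y * c3 q r y = c3 p q r := by
  obtain ⟨a1, a2, a3, a4⟩ := c3_apply h1 hp.symm hq.symm
  obtain ⟨b1, b2, b3, b4⟩ := c3_apply h3 hq.symm hr.symm
  obtain ⟨c1, c2, c3', c4⟩ := c3_apply h1 h2 h3
  ext z
  rw [Perm.mul_apply]
  rcases eq_or_ne z p with rfl | hzp
  · rw [b4 z h1 h2 hp.symm, a1, c1]
  rcases eq_or_ne z q with rfl | hzq
  · rw [b1, a4 r h2.symm h3.symm hr.symm, c2]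
  rcases eq_or_ne z r with rfl | hzr
  · rw [b2, a3, c3']
  rcases eq_or_ne z y with rfl | hzy
  · rw [b3, a2, c4 z hzp hzq hzr]
  rw [b4 z hzq hzr hzy, a4 z hzp hzq hzy, c4 z hzp hzq hzr]

theorem c3_sign {p q r : Ω} (h1 : p ≠ q) (h3 : q ≠ r) : c3 p q r ∈ alternatingGroup Ω := by
  rw [mem_alternatingGroup, c3, map_mul, sign_swap h1, sign_swap h3]; rfl

theorem alt_le_of_c3 (L : Subgroup (Perm Ω))
    (h : ∀ p q r : Ω, p ≠ q → p ≠ r → q ≠ r → c3 p q r ∈ L) : alternatingGroup Ω ≤ L := by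
  rw [← closure_three_cycles_eq_alternating, Subgroup.closure_le]
  intro g hg
  have hg' : IsThreeCycle g := hg
  obtain ⟨a, b, c, hab, hac, hbc, hs⟩ := Finset.card_eq_three.1 hg'.card_support
  have ha : a ∈ g.support := by rw [hs]; simp
  have hga : g a ≠ a := mem_support.1 ha
  have hgga : g (g a) ≠ g a := fun e => hga (g.injective e)
  have hg3 : g (g (g a)) = a := by
    have h3 : g ^ 3 = 1 := by rw [← hg'.orderOf]; exact pow_orderOf_eq_one g
    exact congrArg (fun k : Perm Ω => k a) h3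
  have hgga' : g (g a) ≠ a := fun e => hga (by
    have := hg3; rw [e] at this; exact this)
  have hsupp : g.support = {a, g a, g (g a)} := by
    refine (Finset.eq_of_subset_of_card_le ?_ ?_).symm
    · intro z hz
      simp only [Finset.mem_insert, Finset.mem_singleton] at hz
      rcases hz with rfl | rfl | rfl
      · exact ha
      · exact apply_mem_support.2 ha
      · exact apply_mem_support.2 (apply_mem_support.2 ha)
    · rw [hg'.card_support]
      exact (Finset.card_eq_three.2 ⟨a, g a, g (g a), hga.symm, hgga'.symm, hgga.symm, rfl⟩).ge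
  have e : g = c3 a (g a) (g (g a)) := by
    obtain ⟨a1, a2, a3, a4⟩ := c3_apply hga.symm hgga'.symm hgga.symm
    ext z
    rcases eq_or_ne z a with rfl | hza
    · rw [a1]
    rcases eq_or_ne z (g a) with rfl | hzb
    · rw [a2]
    rcases eq_or_ne z (g (g a)) with rfl | hzc
    · rw [a3, hg3]
    rw [a4 z hza hzb hzc]
    exact notMem_support.1 (by rw [hsupp]; simp [hza, hzb, hzc])
  rw [SetLike.mem_coe, e]
  exact h _ _ _ hga.symm hgga'.symm hgga.symm

variable {a b : ℕ} {f : Ω → Fin b} (hf : ∀ i : Fin b, Nat.card {x : Ω // f x = i} = a)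
include hf

/-- A subgroup containing the even partition stabiliser and a 3-cycle through one block pair. -/
theorem alt_le (ha : 2 ≤ a) (hab : 3 ≤ a ∨ 3 ≤ b) (L : Subgroup (Perm Ω))
    (hle : blockGrp f ⊓ alternatingGroup Ω ≤ L) {x x' y : Ω} (hxx : x' ≠ x) (hfx : f x' = f x)
    (hfy : f y ≠ f x) (hc : c3 x x' y ∈ L) : alternatingGroup Ω ≤ L := by
  have conj : ∀ g ∈ L, ∀ p q r, c3 p q r ∈ L → c3 (g p) (g q) (g r) ∈ L := fun g hg p q r h => by
    rw [← c3_conj]; exact L.mul_mem (L.mul_mem hg h) (L.inv_mem hg)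
  have hpair : ∀ u u' v, u' ≠ u → f u' = f u → f v ≠ f u → c3 u u' v ∈ L := by
    intro u u' v huu hfu hfv
    obtain ⟨w0, hw0, hx0, hy0⟩ := exists_lift_pair hf hfy.symm hfv.symm
    let w1 := swap (w0 x) u * w0
    have hw1 : w1 ∈ blockGrp f := mul_mem (swap_mem hx0) hw0
    have hw1x : w1 x = u := by simp [w1]
    have hw1x' : f (w1 x') = f u' := by
      rw [hfu, ← hw1x]
      exact ((mem_iff.1 hw1) x' x).1 hfx
    let w2 := swap (w1 x') u' * w1
    have hw2 : w2 ∈ blockGrp f := mul_mem (swap_mem hw1x') hw1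
    have hw2x : w2 x = u := by
      show swap (w1 x') u' (w1 x) = u
      rw [hw1x, swap_apply_of_ne_of_ne _ huu.symm]
      rw [← hw1x]
      exact fun e => hxx (w1.injective e).symm
    have hw2x' : w2 x' = u' := by simp [w2]
    have hw1y : f (w1 y) = f v := by
      show f (swap (w0 x) u (w0 y)) = f v
      rw [swap_apply_of_ne_of_ne (fun e => hfv (by rw [← hy0, e, hx0]))
        (fun e => hfv (by rw [← hy0, e]))]
      exact hy0
    have hw2y : f (w2 y) = f v := by
      show f (swap (w1 x') u' (w1 y)) = f v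
      rw [swap_apply_of_ne_of_ne (fun e => hfv (by rw [← hw1y, e, hw1x', hfu]))
        (fun e => hfv (by rw [← hw1y, e, hfu]))]
      exact hw1y
    let w3 := swap (w2 y) v * w2
    have hw3 : w3 ∈ blockGrp f := mul_mem (swap_mem hw2y) hw2
    have hout : ∀ z, f z = f u → swap (w2 y) v z = z := fun z hz =>
      swap_apply_of_ne_of_ne (fun e => hfv (by rw [← hw2y, ← e, hz])) (fun e => hfv (by rw [← e, hz]))
    have hw3x : w3 x = u := by
      show swap (w2 y) v (w2 x) = u
      rw [hw2x, hout u rfl]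
    have hw3x' : w3 x' = u' := by
      show swap (w2 y) v (w2 x') = u'
      rw [hw2x', hout u' hfu]
    have hw3y : w3 y = v := by simp [w3]
    obtain ⟨s, hs, hsu, hsu', hsv, hsodd⟩ : ∃ s ∈ blockGrp f, s u = u ∧ s u' = u' ∧ s v = v ∧
        Perm.sign s = -1 := by
      obtain ⟨p, q, hpq, hfpq, hp, hq⟩ : ∃ p q : Ω, p ≠ q ∧ f p = f q ∧
          (p ≠ u ∧ p ≠ u' ∧ p ≠ v) ∧ (q ≠ u ∧ q ≠ u' ∧ q ≠ v) := by
        rcases hab with ha3 | hb3
        · obtain ⟨p, hpv, -, hfp⟩ := exists_third hf ha3 v v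
          obtain ⟨q, hqv, hqp, hfq⟩ := exists_third hf ha3 v p
          refine ⟨p, q, hqp.symm, hfp.trans hfq.symm, ⟨?_, ?_, hpv⟩, ⟨?_, ?_, hqv⟩⟩
          · exact fun e => hfv (by rw [← hfp, e])
          · exact fun e => hfv (by rw [← hfp, e, hfu])
          · exact fun e => hfv (by rw [← hfq, e])
          · exact fun e => hfv (by rw [← hfq, e, hfu])
        · obtain ⟨i, hiu, hiv⟩ : ∃ i : Fin b, i ≠ f u ∧ i ≠ f v := by
            by_contra hcon
            push Not at hcon
            have : (Finset.univ : Finset (Fin b)) ⊆ {f u, f v} := fun i _ => by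
              simp only [Finset.mem_insert, Finset.mem_singleton]
              exact or_iff_not_imp_left.2 (hcon i)
            have := (Finset.card_le_card this).trans Finset.card_le_two
            simp at this
            omega
          obtain ⟨p, hp⟩ := exists_outside hf (by omega) i
          obtain ⟨q, hqp, hfq⟩ := exists_partner hf ha p
          refine ⟨p, q, hqp.symm, hfq.symm, ⟨?_, ?_, ?_⟩, ⟨?_, ?_, ?_⟩⟩
          · exact fun e => hiu (by rw [← hp, e])
          · exact fun e => hiu (by rw [← hp, e, hfu])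
          · exact fun e => hiv (by rw [← hp, e])
          · exact fun e => hiu (by rw [← hp, ← hfq, e])
          · exact fun e => hiu (by rw [← hp, ← hfq, e, hfu])
          · exact fun e => hiv (by rw [← hp, ← hfq, e])
      exact ⟨swap p q, swap_mem hfpq, swap_apply_of_ne_of_ne hp.1.symm hq.1.symm,
        swap_apply_of_ne_of_ne hp.2.1.symm hq.2.1.symm,
        swap_apply_of_ne_of_ne hp.2.2.symm hq.2.2.symm, sign_swap hpq⟩
    obtain ⟨w, hwW, hwx, hwx', hwy⟩ : ∃ w ∈ blockGrp f ⊓ alternatingGroup Ω,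
        w x = u ∧ w x' = u' ∧ w y = v := by
      rcases Int.units_eq_one_or (Perm.sign w3) with h | h
      · exact ⟨w3, ⟨hw3, h⟩, hw3x, hw3x', hw3y⟩
      · refine ⟨s * w3, ⟨mul_mem hs hw3, mem_alternatingGroup.2 (by rw [map_mul, h, hsodd]; rfl)⟩,
          ?_, ?_, ?_⟩
        · rw [Perm.mul_apply, hw3x, hsu]
        · rw [Perm.mul_apply, hw3x', hsu']
        · rw [Perm.mul_apply, hw3y, hsv]
    have := conj w (hle hwW) x x' y hc
    rwa [hwx, hwx', hwy] at this
  refine alt_le_of_c3 L fun p q r h1 h2 h3 => ?_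
  by_cases hpq : f p = f q
  · by_cases hrp : f r = f p
    · obtain ⟨z, hz⟩ : ∃ z, f z ≠ f p := by
        by_cases hy : f y = f p
        · exact ⟨x, fun e => hfy (hy.trans e.symm)⟩
        · exact ⟨y, hy⟩
      rw [← c3_mul h1 h2 h3 (fun e => hz (congrArg f e)) (fun e => hz (by rw [e, hpq]))
        (fun e => hz (by rw [e, hrp]))]
      exact L.mul_mem (hpair p q z h1.symm hpq.symm hz)
        (hpair q r z h3.symm (hrp.trans hpq) (fun e => hz (e.trans hpq.symm)))
    · exact hpair p q r h1.symm hpq.symm hrp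
  · by_cases hrq : f r = f q
    · rw [c3_rot h1 h2 h3]
      exact hpair q r p h3.symm hrq hpq
    · by_cases hrp : f r = f p
      · rw [← c3_rot h2.symm h3.symm h1]
        exact hpair r p q h2 hrp.symm (fun e => hpq (e.trans hrp).symm)
      · obtain ⟨p', hp', hfp'⟩ := exists_partner hf ha p
        have hq' : p' ≠ q := fun e => hpq (hfp' ▸ congrArg f e)
        have hr' : p' ≠ r := fun e => hrp ((congrArg f e).symm.trans hfp')
        have hg := hpair p' p q hp'.symm hfp'.symm (fun e => hpq (hfp' ▸ e.symm))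
        have hm := hpair p' p r hp'.symm hfp'.symm (fun e => hrp (e.trans hfp'))
        have := conj _ hg _ _ _ hm
        obtain ⟨a1, a2, a3, a4⟩ := c3_apply hp' hq' h1
        rwa [a1, a2, a4 r hr'.symm h2.symm h3.symm] at this

/-- A subgroup properly above the even stabiliser has a 3-cycle meeting two blocks. -/
theorem exists_c3 (ha : 3 ≤ a) (L : Subgroup (Perm Ω))
    (hle : blockGrp f ⊓ alternatingGroup Ω ≤ L) {h : Perm Ω} (hh : h ∈ L) (hnot : h ∉ blockGrp f) :
    ∃ x x' y, x' ≠ x ∧ f x' = f x ∧ f y ≠ f x ∧ c3 x x' y ∈ L := by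
  rw [mem_iff] at hnot
  push Not at hnot
  obtain ⟨x, y, hxy⟩ := hnot
  have hin : ∀ {p q r : Ω}, p ≠ q → p ≠ r → q ≠ r → f q = f p → f r = f p → c3 p q r ∈ L := by
    intro p q r h1 h2 h3 hq hr
    exact hle ⟨mul_mem (swap_mem hq.symm) (swap_mem (hq.trans hr.symm)), c3_sign h1 h3⟩
  obtain ⟨k, hk, u, v, hfuv, hne⟩ : ∃ k ∈ L, ∃ u v, f u = f v ∧ f (k u) ≠ f (k v) := by
    rcases hxy with ⟨h1, h2⟩ | ⟨h1, h2⟩
    · exact ⟨h, hh, x, y, h1, h2⟩
    · refine ⟨h⁻¹, inv_mem hh, h x, h y, h2, ?_⟩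
      rwa [Perm.inv_def, h.symm_apply_apply, h.symm_apply_apply]
  have huv : u ≠ v := fun e => hne (by rw [e])
  obtain ⟨z, hzu, hzv, hfz⟩ := exists_third hf ha u v
  have hc := hin huv hzu.symm hzv.symm hfuv.symm hfz
  have hc' : c3 (k u) (k v) (k z) ∈ L := by
    rw [← c3_conj]; exact L.mul_mem (L.mul_mem hk hc) (L.inv_mem hk)
  have d1 : k u ≠ k v := fun e => huv (k.injective e)
  have d2 : k u ≠ k z := fun e => hzu (k.injective e).symm
  have d3 : k v ≠ k z := fun e => hzv (k.injective e).symm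
  generalize k u = p, k v = q, k z = r at hc' hne d1 d2 d3
  by_cases hrp : f r = f p
  · rw [← c3_rot d2.symm d3.symm d1] at hc'
    exact ⟨r, p, q, d2, hrp.symm, fun e => hne (e.trans hrp).symm, hc'⟩
  by_cases hrq : f r = f q
  · rw [c3_rot d1 d2 d3] at hc'
    exact ⟨q, r, p, d3.symm, hrq, hne, hc'⟩
  obtain ⟨p', hp', -, hfp'⟩ := exists_third hf ha p p
  obtain ⟨p'', hp''1, hp''2, hfp''⟩ := exists_third hf ha p p'
  have hq' : p' ≠ q := fun e => hne (hfp' ▸ congrArg f e)
  have hr' : p' ≠ r := fun e => hrp ((congrArg f e).symm.trans hfp')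
  have hq'' : p'' ≠ q := fun e => hne (hfp'' ▸ congrArg f e)
  have hr'' : p'' ≠ r := fun e => hrp ((congrArg f e).symm.trans hfp'')
  have hg := hin hp'.symm hp''1.symm hp''2.symm hfp' hfp''
  obtain ⟨a1, a2, a3, a4⟩ := c3_apply hp'.symm hp''1.symm hp''2.symm
  have h2 : c3 p' q r ∈ L := by
    have := L.mul_mem (L.mul_mem hg hc') (L.inv_mem hg)
    rwa [c3_conj, a1, a4 q d1.symm hq'.symm hq''.symm, a4 r d2.symm hr'.symm hr''.symm] at this
  obtain ⟨b1, b2, b3, b4⟩ := c3_apply d1 d2 d3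
  obtain ⟨e1, e2, e3, e4⟩ := c3_apply hq' hr' d3
  obtain ⟨g1, g2, g3, g4⟩ := c3_apply hp' hq' d1
  refine ⟨p', p, q, hp'.symm, hfp'.symm, fun e => hne (hfp' ▸ e).symm, ?_⟩
  have key : c3 p q r = c3 p' p q * c3 p' q r := by
    ext w
    rw [Perm.mul_apply]
    rcases eq_or_ne w p with rfl | hwp
    · rw [b1, e4 w hp'.symm d1 d2, g2]
    rcases eq_or_ne w q with rfl | hwq
    · rw [b2, e2, g4 r hr'.symm d2.symm d3.symm]
    rcases eq_or_ne w r with rfl | hwr
    · rw [b3, e3, g1]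
    rcases eq_or_ne w p' with rfl | hwp'
    · rw [b4 w hwp hwq hwr, e1, g3]
    rw [b4 w hwp hwq hwr, e4 w hwp' hwq hwr, g4 w hwp' hwp hwq]
  have := L.mul_mem hc' (L.inv_mem h2)
  rwa [key, mul_inv_cancel_right] at this

/-- Pairs, at least five of them. -/
theorem exists_c3_pairs (ha : a = 2) (hb : 5 ≤ b) (L : Subgroup (Perm Ω))
    (hle : blockGrp f ⊓ alternatingGroup Ω ≤ L) {h : Perm Ω} (hh : h ∈ L) (hnot : h ∉ blockGrp f) :
    ∃ x x' y, x' ≠ x ∧ f x' = f x ∧ f y ≠ f x ∧ c3 x x' y ∈ L := by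
  subst ha
  rw [mem_iff] at hnot
  push Not at hnot
  obtain ⟨x₀, y₀, hxy⟩ := hnot
  obtain ⟨k, hk, x, x', hfxx, hne⟩ : ∃ k ∈ L, ∃ u v, f u = f v ∧ f (k u) ≠ f (k v) := by
    rcases hxy with ⟨h1, h2⟩ | ⟨h1, h2⟩
    · exact ⟨h, hh, x₀, y₀, h1, h2⟩
    · refine ⟨h⁻¹, inv_mem hh, h x₀, h y₀, h2, ?_⟩
      rwa [Perm.inv_def, h.symm_apply_apply, h.symm_apply_apply]
  have hxx : x ≠ x' := fun e => hne (by rw [e])
  obtain ⟨u', hu', hfu'⟩ := exists_partner hf le_rfl (k x)
  obtain ⟨i, hi1, hi2⟩ : ∃ i : Fin b, i ≠ f x ∧ i ≠ f (k⁻¹ u') := by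
    by_contra hcon
    push Not at hcon
    have : (Finset.univ : Finset (Fin b)) ⊆ {f x, f (k⁻¹ u')} := fun i _ => by
      simp only [Finset.mem_insert, Finset.mem_singleton]
      exact or_iff_not_imp_left.2 (hcon i)
    have := (Finset.card_le_card this).trans Finset.card_le_two
    simp at this
    omega
  obtain ⟨y, hy⟩ := exists_outside hf (by omega) i
  obtain ⟨y', hy', hfy'⟩ := exists_partner hf le_rfl y
  obtain ⟨j, hj⟩ : ∃ j : Fin b, j ∉ ({f (k x), f (k x'), f (k y), f (k y')} : Finset (Fin b)) := by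
    by_contra hcon
    push Not at hcon
    have := (Finset.card_le_card (fun j _ => hcon j : (Finset.univ : Finset (Fin b)) ⊆ _)).trans
      Finset.card_le_four
    simp at this
    omega
  simp only [Finset.mem_insert, Finset.mem_singleton, not_or] at hj
  obtain ⟨z, hz⟩ := exists_outside hf (by omega) j
  obtain ⟨z', hz', hfz'⟩ := exists_partner hf le_rfl z
  have hux' : u' ≠ k x' := fun e => hne (hfu'.symm.trans (congrArg f e))
  have huy : u' ≠ k y := fun e => hi2 (by rw [← hy, e, Perm.inv_def, k.symm_apply_apply])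
  have huy' : u' ≠ k y' := fun e => hi2 (by rw [← hy, ← hfy', e, Perm.inv_def, k.symm_apply_apply])
  have hE : swap (k x) (k x') * swap (k y) (k y') ∈ L := by
    have h1 : swap x x' * swap y y' ∈ L := hle ⟨mul_mem (swap_mem hfxx) (swap_mem hfy'.symm), mem_alternatingGroup.2 (by rw [map_mul, sign_swap hxx, sign_swap hy'.symm]; rfl)⟩
    have := L.mul_mem (L.mul_mem hk h1) (L.inv_mem hk)
    rw [swap_apply_apply, swap_apply_apply]
    convert this using 1
    simp [mul_assoc]
  set E := swap (k x) (k x') * swap (k y) (k y') with hEdef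
  have hD : swap (k x) u' * swap z z' ∈ L := hle ⟨mul_mem (swap_mem hfu'.symm) (swap_mem hfz'.symm), mem_alternatingGroup.2 (by rw [map_mul, sign_swap hu'.symm, sign_swap hz'.symm]; rfl)⟩
  have hkne : ∀ {p q : Ω}, f p ≠ f q → k p ≠ k q := fun hpq e => hpq (congrArg f (k.injective e))
  have hfy : f y ≠ f x := by rw [hy]; exact hi1
  have e1 : E (k x) = k x' := by
    rw [hEdef, Perm.mul_apply, swap_apply_of_ne_of_ne (hkne hfy.symm) (hkne (hfy' ▸ hfy.symm)), swap_apply_left]
  have e2 : E u' = u' := by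
    rw [hEdef, Perm.mul_apply, swap_apply_of_ne_of_ne huy huy', swap_apply_of_ne_of_ne hu' hux']
  have e3 : ∀ w, f w = j → E w = w := by
    intro w hw
    rw [hEdef, Perm.mul_apply,
      swap_apply_of_ne_of_ne (fun e => hj.2.2.1 (hw ▸ congrArg f e)) (fun e => hj.2.2.2 (hw ▸ congrArg f e)),
      swap_apply_of_ne_of_ne (fun e => hj.1 (hw ▸ congrArg f e)) (fun e => hj.2.1 (hw ▸ congrArg f e))]
  have hED : E * (swap (k x) u' * swap z z') * E⁻¹ = swap (k x') u' * swap z z' := by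
    have h1 : swap (k x') u' = E * swap (k x) u' * E⁻¹ := by rw [← swap_apply_apply, e1, e2]
    have h2 : swap z z' = E * swap z z' * E⁻¹ := by
      rw [← swap_apply_apply, e3 z hz, e3 z' (hfz'.trans hz)]
    rw [h1]
    conv_rhs => rw [h2]
    simp [mul_assoc]
  have hprod := L.mul_mem hD (L.mul_mem (L.mul_mem hE hD) (L.inv_mem hE))
  rw [hED] at hprod
  have hcomm : swap (k x') u' * swap z z' = swap z z' * swap (k x') u' :=
    (SwapPerms.commute_swap (fun e => hj.2.1 (hz ▸ congrArg f e).symm)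
      (fun e => hj.2.1 ((hfz'.trans hz) ▸ congrArg f e).symm)
      (fun e => hj.1 (hz ▸ ((congrArg f e).symm.trans hfu')))
      (fun e => hj.1 ((hfz'.trans hz) ▸ ((congrArg f e).symm.trans hfu')))).eq
  rw [hcomm, mul_assoc, ← mul_assoc (swap z z'), swap_mul_self, one_mul, swap_comm (k x') u'] at hprod
  exact ⟨k x, u', k x', hu', hfu', hne.symm, hprod⟩

end Three

end CfsgLib.BlockMax
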