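import Cfsg.Agent.SimplePower.Basic
import Cfsg.Agent.Perm.MinimalNormal
import Mathlib.GroupTheory.SemidirectProduct
import Mathlib.GroupTheory.SpecificGroups.Cyclic

/-! Characteristically simple finite groups are powers of simple groups. -/

set_option autoImplicit false

namespace CfsgLib.SimplePower

theorem exists_power_of_charSimple {G : Type*} [Group G] [Finite G] [Nontrivial G]
    (h : ∀ H : Subgroup G, H.Characteristic → H = ⊥ ∨ H = ⊤) :
    ∃ (S : Type) (_ : Group S) (_ : IsSimpleGroup S) (n : ℕ), 1 ≤ n ∧ Nonempty (G ≃* (Fin n → S)) := by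
  let P := SemidirectProduct G (MulAut G) (MonoidHom.id _)
  let ι : G →* P := SemidirectProduct.inl
  have hι : Function.Injective ι := SemidirectProduct.inl_injective
  have : Finite P := Finite.of_equiv _ SemidirectProduct.equivProd.symm
  have hN : (ι.range).Normal := by
    rw [show ι.range = SemidirectProduct.rightHom.ker from
      SemidirectProduct.range_inl_eq_ker_rightHom]
    infer_instance
  have hne : ι.range ≠ ⊥ := fun hb => by
    obtain ⟨g, hg⟩ := exists_ne (1 : G)
    have : ι g ∈ (⊥ : Subgroup P) := hb ▸ ⟨g, rfl⟩
    exact hg (hι (by rw [Subgroup.mem_bot] at this; rw [this, map_one]))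
  obtain ⟨S, hS, m, hsimp, hm, ⟨e⟩⟩ :=
    CfsgLib.MinimalNormal.exists_mulEquiv_pi_simple ι.range hne (by
      intro M hMn hMle
      have hch : (M.comap ι).Characteristic := by
        refine Subgroup.characteristic_iff_le_comap.2 fun φ g hg => ?_
        show ι (φ g) ∈ M
        have := hMn.conj_mem (ι g) hg (SemidirectProduct.inr φ)
        rwa [show SemidirectProduct.inr φ * ι g * (SemidirectProduct.inr φ)⁻¹ = ι (φ g) from
          by rw [← map_inv]; exact (SemidirectProduct.inl_aut φ g).symm] at this
      have hM : (M.comap ι).map ι = M := Subgroup.map_comap_eq_self hMle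
      rcases h _ hch with hb | ht
      · exact Or.inl (by rw [← hM, hb, Subgroup.map_bot])
      · exact Or.inr (by rw [← hM, ht, ← MonoidHom.range_eq_map]))
  exact ⟨S, hS, hsimp, m, hm, ⟨(MonoidHom.ofInjective hι).trans e⟩⟩

theorem charSimple_power {S : Type*} [Group S] [IsSimpleGroup S] {n : ℕ}
    (H : Subgroup (Fin n → S)) (hH : H.Characteristic) : H = ⊥ ∨ H = ⊤ := by
  classical
  refine or_iff_not_imp_left.2 fun hne => ?_
  have hswap : ∀ (i j : Fin n) (s : S), Pi.mulSingle i s ∈ H → Pi.mulSingle j s ∈ H := by
    intro i j s hs
    let φ : (Fin n → S) ≃* (Fin n → S) :=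
      { toFun := fun y k => y (Equiv.swap i j k)
        invFun := fun y k => y (Equiv.swap i j k)
        left_inv := fun y => funext fun k => by simp
        right_inv := fun y => funext fun k => by simp
        map_mul' := fun y z => rfl }
    have := (Subgroup.characteristic_iff_le_comap.1 hH φ) hs
    rw [Subgroup.mem_comap] at this
    convert this using 1
    funext k
    show (Pi.mulSingle j s : Fin n → S) k = (Pi.mulSingle i s : Fin n → S) (Equiv.swap i j k)
    rcases eq_or_ne k j with rfl | hk
    · simp
    · have h1 : Equiv.swap i j k ≠ i := fun e => hk (by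
        rw [← Equiv.swap_apply_self i j k, e, Equiv.swap_apply_left])
      simp [hk, h1]
  obtain ⟨⟨x, hx⟩, hx1⟩ : ∃ x : H, (x : Fin n → S) ≠ 1 := by
    by_contra hc
    push Not at hc
    exact hne ((Subgroup.eq_bot_iff_forall _).2 fun x hx => hc ⟨x, hx⟩)
  obtain ⟨i, hi⟩ : ∃ i, x i ≠ 1 := by
    by_contra hc
    push Not at hc
    exact hx1 (funext hc)
  suffices hall : ∀ j s, Pi.mulSingle j s ∈ H by
    rw [eq_top_iff]
    intro y _
    rw [← Finset.noncommProd_mulSingle y]
    exact Subgroup.noncommProd_mem _ _ fun j _ => hall j _
  intro j s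
  refine hswap i j s ?_
  by_cases hS : IsMulCommutative S
  · have hxi : Pi.mulSingle i (x i) ∈ H := by
      by_cases hsing : ∀ k, k = i
      · convert hx using 1
        funext k
        rw [hsing k]; simp
      · push Not at hsing
        obtain ⟨k, hk⟩ := hsing
        let σ : (Fin n → S) ≃* (Fin n → S) :=
          { toFun := fun y => y * Pi.mulSingle k (y i)
            invFun := fun y => y * Pi.mulSingle k (y i)⁻¹
            left_inv := fun y => by
              funext l
              rcases eq_or_ne l k with rfl | hl
              · simp [hk.symm]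
              · simp [hl]
            right_inv := fun y => by
              funext l
              rcases eq_or_ne l k with rfl | hl
              · simp [hk.symm]
              · simp [hl]
            map_mul' := fun y z => by
              funext l
              rcases eq_or_ne l k with rfl | hl
              · simp only [Pi.mul_apply, Pi.mulSingle_eq_same]
                simp only [mul_assoc]
                rw [← mul_assoc (z l), hS.is_comm.comm (z l) (y i)]
                simp only [mul_assoc]
              · simp [hl] }
        have h1 : σ x ∈ H := (Subgroup.characteristic_iff_le_comap.1 hH σ) hx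
        have h2 := H.mul_mem (H.inv_mem hx) h1
        refine hswap k i (x i) ?_
        simpa [σ] using h2
    have htop : Subgroup.zpowers (x i) = ⊤ := by
      have : (Subgroup.zpowers (x i)).Normal := ⟨fun a ha g => by
        rw [hS.is_comm.comm g a, mul_assoc, mul_inv_cancel, mul_one]; exact ha⟩
      exact this.eq_bot_or_eq_top.resolve_left fun hb => hi (Subgroup.zpowers_eq_bot.1 hb)
    obtain ⟨k, rfl⟩ := Subgroup.mem_zpowers_iff.1 (htop ▸ Subgroup.mem_top s)
    rw [Pi.mulSingle_zpow]
    exact H.zpow_mem hxi k
  · have := Subgroup.normal_of_characteristic H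
    exact single_mem hS H hx hi s

theorem charSimple_iff {G : Type*} [Group G] [Finite G] [Nontrivial G] :
    (∀ H : Subgroup G, H.Characteristic → H = ⊥ ∨ H = ⊤) ↔
    ∃ (S : Type) (_ : Group S) (_ : IsSimpleGroup S) (n : ℕ), 1 ≤ n ∧
      Nonempty (G ≃* (Fin n → S)) := by
  refine ⟨exists_power_of_charSimple, ?_⟩
  rintro ⟨S, _, _, n, -, ⟨e⟩⟩ H hH
  have hK : (H.map e.toMonoidHom).Characteristic := by
    refine Subgroup.characteristic_iff_le_comap.2 fun φ => ?_
    rintro _ ⟨g, hg, rfl⟩
    exact ⟨_, (Subgroup.characteristic_iff_le_comap.1 hH ((e.trans φ).trans e.symm)) hg,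
      by simp⟩
  rcases charSimple_power _ hK with hb | ht
  · exact Or.inl ((Subgroup.map_eq_bot_iff_of_injective _ e.injective).1 hb)
  · refine Or.inr (Subgroup.map_injective (f := e.toMonoidHom) e.injective ?_)
    rw [ht, Subgroup.map_top_of_surjective _ e.surjective]

end CfsgLib.SimplePower
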