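import Cfsg.Agent.SimplePower.SymIndex

/-! Index six subgroups of the symmetric group of degree six. -/

set_option autoImplicit false
set_option linter.unusedSectionVars false

namespace CfsgLib.SymIndex

open Equiv Equiv.Perm MulAction
open scoped Classical

variable {α β : Type*} [Fintype α] [DecidableEq α] [Fintype β] [DecidableEq β]

/-- Three disjoint transpositions. -/
abbrev IsTriple (g : Perm α) : Prop := g.cycleType = {2, 2, 2}

theorem six_cases (e : Perm α ≃* Perm β) (hα : Fintype.card α = 6) (hβ : Fintype.card β = 6)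
    {s : Perm α} (hs : s.IsSwap) : (e s).IsSwap ∨ IsTriple (e s) := by
  have h2 : e s * e s = 1 := by rw [← map_mul, swap_mul_self' hs, map_one]
  have hcard : Nat.card (Subgroup.centralizer ({e s} : Set (Perm β))) = 2 * (4).factorial := by
    rw [card_centralizer_image, SwapPerms.card_centralizer_swap hs, hα]
  have hes1 : e s ≠ 1 := by
    intro h
    obtain ⟨a, b, hab, rfl⟩ := hs
    exact hab (swap_eq_one_iff.1 ((map_eq_one_iff e e.injective).1 h))
  obtain ⟨k, hk⟩ : ∃ k, (e s).cycleType = Multiset.replicate k 2 := by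
    refine ⟨Multiset.card (e s).cycleType, Multiset.eq_replicate_card.2 fun i hi => ?_⟩
    have h1 := dvd_of_mem_cycleType hi
    have h2' : orderOf (e s) ∣ 2 := orderOf_dvd_of_pow_eq_one (by rw [pow_two, h2])
    exact ((Nat.dvd_prime Nat.prime_two).1 (h1.trans h2')).resolve_left
      (by have := two_le_of_mem_cycleType hi; omega)
  have hsum : 2 * k ≤ 6 := by
    have := (e s).sum_cycleType
    rw [hk, Multiset.sum_replicate, smul_eq_mul] at this
    have := (e s).support.card_le_univ
    omega
  rw [nat_card_centralizer (e s), hk, hβ] at hcard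
  obtain rfl | rfl | rfl | rfl : k = 0 ∨ k = 1 ∨ k = 2 ∨ k = 3 := by omega
  · exact absurd (cycleType_eq_zero.1 (by simpa using hk)) hes1
  · left; rw [isSwap_iff_cycleType, hk]; rfl
  · simp [Multiset.replicate_succ, Multiset.toFinset, Nat.factorial] at hcard
  · right; exact hk

theorem conj_type (e : Perm α ≃* Perm β) {s t : Perm α} (hs : s.IsSwap) (ht : t.IsSwap) :
    (e t).cycleType = (e s).cycleType := by
  obtain ⟨c, rfl⟩ := isConj_iff.1 (isSwap_conj hs ht)
  rw [map_mul, map_mul, map_inv, cycleType_conj]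

theorem card_triples (hα : Fintype.card α = 6) : Nat.card {g : Perm α // IsTriple g} = 15 := by
  rw [Nat.card_eq_fintype_card, Fintype.card_subtype]
  show Finset.card {g : Perm α | g.cycleType = {2, 2, 2}} = 15
  rw [card_of_cycleType, hα]
  decide

theorem isTriple_ne_swap {g : Perm α} (h : IsTriple g) : ¬ g.IsSwap := by
  rw [isSwap_iff_cycleType, h]
  decide

variable (H : Subgroup (Perm α))

/-- The coset action sends some transposition to a non-transposition. -/
def Exotic (h5 : 5 ≤ Fintype.card α) (hH : H.index = Fintype.card α) : Prop :=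
  ∃ s : Perm α, s.IsSwap ∧ ¬ (cosetEquiv H h5 hH s).IsSwap

theorem card_quot (hH : H.index = Fintype.card α) :
    Fintype.card (Perm α ⧸ H) = Fintype.card α := by
  rw [← Nat.card_eq_fintype_card, ← Subgroup.index, hH]

theorem eq_stabilizer_of_not_exotic (h5 : 5 ≤ Fintype.card α) (hH : H.index = Fintype.card α)
    (he : ¬ Exotic H h5 hH) : ∃ x : α, H = stabilizer (Perm α) x := by
  simp only [Exotic, not_exists, not_and, not_not] at he
  obtain ⟨x, hx⟩ := comap_stabilizer (cosetEquiv H h5 hH) (by omega) (card_quot H hH) he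
    ((1 : Perm α) : Perm α ⧸ H)
  rw [comap_cosetEquiv, stabilizer_quotient] at hx
  exact ⟨x, hx⟩

variable {H}

theorem exotic_triple (hα : Fintype.card α = 6) {h5 : 5 ≤ Fintype.card α}
    {hH : H.index = Fintype.card α} (he : Exotic H h5 hH) {s : Perm α} (hs : s.IsSwap) :
    IsTriple (cosetEquiv H h5 hH s) := by
  obtain ⟨t, ht, hne⟩ := he
  have hq : Fintype.card (Perm α ⧸ H) = 6 := by rw [card_quot H hH, hα]
  rcases six_cases (cosetEquiv H h5 hH) hα hq hs with h | h
  · exact absurd (by rw [isSwap_iff_cycleType] at h ⊢; rw [conj_type _ hs ht, h]) hne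
  · exact h

theorem exotic_conj (hα : Fintype.card α = 6) (H K : Subgroup (Perm α))
    {h5 : 5 ≤ Fintype.card α} {hH : H.index = Fintype.card α} {hK : K.index = Fintype.card α}
    (heH : Exotic H h5 hH) (heK : Exotic K h5 hK) :
    ∃ g : Perm α, H.map (MulAut.conj g).toMonoidHom = K := by
  set φ := cosetEquiv H h5 hH with hφ
  set ψ := cosetEquiv K h5 hK with hψ
  have hqH : Fintype.card (Perm α ⧸ H) = 6 := by rw [card_quot H hH, hα]
  have hqK : Fintype.card (Perm α ⧸ K) = 6 := by rw [card_quot K hK, hα]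
  have hcomp : ∀ t : Perm (Perm α ⧸ H), t.IsSwap → ((φ.symm.trans ψ) t).IsSwap := by
    intro t ht
    rcases six_cases (φ.symm.trans ψ) hqH hqK ht with h | h
    · exact h
    exfalso
    -- `ψ` maps the transpositions onto all the triples
    have hb : Function.Bijective
        (fun s : {s : Perm α // s.IsSwap} =>
          (⟨ψ s.1, exotic_triple hα heK s.2⟩ : {g : Perm (Perm α ⧸ K) // IsTriple g})) := by
      refine (Nat.bijective_iff_injective_and_card _).2
        ⟨fun a b h => Subtype.ext (ψ.injective (congrArg Subtype.val h)), ?_⟩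
      rw [card_swap_set, hα, card_triples hqK]
      decide
    obtain ⟨⟨s, hs⟩, hst⟩ := hb.2 ⟨_, h⟩
    have e : s = φ.symm t := ψ.injective (congrArg Subtype.val hst)
    have h3 := exotic_triple hα heH hs
    rw [← hφ, e, φ.apply_symm_apply] at h3
    exact isTriple_ne_swap h3 ht
  obtain ⟨q, hq⟩ := comap_stabilizer (φ.symm.trans ψ) (by omega) (hqK.trans hqH.symm) hcomp
    ((1 : Perm α) : Perm α ⧸ K)
  obtain ⟨g, rfl⟩ := QuotientGroup.mk_surjective q
  refine ⟨g, ?_⟩
  ext x
  rw [show x ∈ K ↔ x ∈ stabilizer (Perm α) ((1 : Perm α) : Perm α ⧸ K) by rw [stabilizer_quotient],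
    ← comap_cosetEquiv K h5 hK]
  have h1 : φ x ∈ stabilizer (Perm (Perm α ⧸ H)) (g : Perm α ⧸ H) ↔
      ψ x ∈ stabilizer (Perm (Perm α ⧸ K)) ((1 : Perm α) : Perm α ⧸ K) := by
    rw [← hq]
    show ψ (φ.symm (φ x)) ∈ stabilizer (Perm (Perm α ⧸ K)) ((1 : Perm α) : Perm α ⧸ K) ↔ _
    rw [φ.symm_apply_apply]
  show x ∈ H.map (MulAut.conj g).toMonoidHom ↔
    ψ x ∈ stabilizer (Perm (Perm α ⧸ K)) ((1 : Perm α) : Perm α ⧸ K)
  rw [← h1, Subgroup.mem_map_equiv]
  show g⁻¹ * x * g ∈ H ↔ x ∈ (stabilizer (Perm (Perm α ⧸ H)) (g : Perm α ⧸ H)).comap φ.toMonoidHom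
  rw [comap_cosetEquiv, mem_stabilizer_iff, show x • (g : Perm α ⧸ H) = ((x * g : Perm α) : Perm α ⧸ H) from rfl,
    eq_comm, QuotientGroup.eq, ← mul_assoc]

theorem not_stab_imp_exotic (h5 : 5 ≤ Fintype.card α) (hH : H.index = Fintype.card α)
    (h : ∀ x : α, H ≠ stabilizer (Perm α) x) : Exotic H h5 hH := by
  by_contra he
  obtain ⟨x, hx⟩ := eq_stabilizer_of_not_exotic H h5 hH he
  exact h x hx

/-- An exotic subgroup of index six exists. -/
theorem exists_exotic (hα : Fintype.card α = 6) :
    ∃ H : Subgroup (Perm α), H.index = 6 ∧ ∀ x : α, H ≠ stabilizer (Perm α) x := by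
  have : Fact (Nat.Prime 5) := ⟨by norm_num⟩
  have hsyl : Nat.card (Sylow 5 (Perm (Fin 5))) = 6 := by
    have hcard : Nat.card (Perm (Fin 5)) = 120 := by rw [Nat.card_perm, Nat.card_fin]; rfl
    obtain ⟨P⟩ := (inferInstance : Nonempty (Sylow 5 (Perm (Fin 5))))
    have hP : Nat.card P = 5 := by
      rw [P.card_eq_multiplicity, hcard, show 120 = 5 * 24 from rfl,
        Nat.factorization_mul (by norm_num) (by norm_num), Finsupp.add_apply,
        Nat.Prime.factorization_self (by norm_num), Nat.factorization_eq_zero_of_not_dvd (by norm_num)]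
      norm_num
    have hidx : (P : Subgroup (Perm (Fin 5))).index = 24 := by
      have := Subgroup.card_mul_index (P : Subgroup (Perm (Fin 5)))
      rw [hcard, hP] at this
      omega
    have h1 := P.card_dvd_index
    rw [hidx] at h1
    have h2 := card_sylow_modEq_one 5 (Perm (Fin 5))
    have h3 : Nat.card (Sylow 5 (Perm (Fin 5))) ≠ 1 := by
      intro h
      have : Subsingleton (Sylow 5 (Perm (Fin 5))) := (Nat.card_eq_one_iff_unique.1 h).1
      have : (P : Subgroup (Perm (Fin 5))).Normal := Sylow.normal_of_subsingleton P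
      rcases normal_cases (by simp) (P : Subgroup (Perm (Fin 5))) with hb | hA
      · rw [hb, Subgroup.card_bot] at hP; omega
      · have := Subgroup.card_le_of_le hA
        have h60 := two_mul_nat_card_alternatingGroup (α := Fin 5)
        rw [hcard] at h60
        omega
    have hle := Nat.le_of_dvd (by norm_num) h1
    rw [Nat.ModEq] at h2
    have : ∀ k ≤ 24, k ∣ 24 → k % 5 = 1 % 5 → k ≠ 1 → k = 6 := by decide
    exact this _ hle h1 h2 h3
  have : Fintype (Sylow 5 (Perm (Fin 5))) := Fintype.ofFinite _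
  have e : Sylow 5 (Perm (Fin 5)) ≃ α :=
    Fintype.equivOfCardEq (by rw [← Nat.card_eq_fintype_card, hsyl, hα])
  let f : Perm (Fin 5) →* Perm α := e.permCongrHom.toMonoidHom.comp (toPermHom _ _)
  have htr : ∀ a b : α, ∃ g, f g a = b := fun a b => by
    obtain ⟨g, hg⟩ := MulAction.exists_smul_eq (Perm (Fin 5)) (e.symm a) (e.symm b)
    refine ⟨g, ?_⟩
    show e (g • e.symm a) = b
    rw [hg, e.apply_symm_apply]
  have hf : Function.Injective f := by
    rw [← MonoidHom.ker_eq_bot_iff]
    rcases normal_cases (by simp) f.ker with h | h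
    · exact h
    exfalso
    have h1 : Nat.card f.range ∣ 2 := by
      rw [← Subgroup.index_ker]
      exact (Subgroup.index_dvd_of_le h).trans (by rw [alternatingGroup.index_eq_two])
    obtain ⟨a⟩ : Nonempty α := Fintype.card_pos_iff.1 (by omega)
    have h2 : Nat.card α ≤ Nat.card f.range :=
      Nat.card_le_card_of_surjective (fun g : f.range => (g : Perm α) a) fun b => by
        obtain ⟨g, hg⟩ := htr a b
        exact ⟨⟨f g, g, rfl⟩, hg⟩
    rw [Nat.card_eq_fintype_card, hα] at h2
    have := Nat.le_of_dvd (by norm_num) h1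
    omega
  refine ⟨f.range, ?_, fun x hx => ?_⟩
  · have h := Subgroup.card_mul_index f.range
    rw [← Nat.card_congr (MonoidHom.ofInjective hf).toEquiv, Nat.card_perm, Nat.card_perm,
      Nat.card_fin, Nat.card_eq_fintype_card, hα] at h
    simp [Nat.factorial] at h
    omega
  · obtain ⟨y, hy⟩ := Fintype.exists_ne_of_one_lt_card (show 1 < Fintype.card α by omega) x
    obtain ⟨g, hg⟩ := htr x y
    have : f g ∈ stabilizer (Perm α) x := hx ▸ (⟨g, rfl⟩ : f g ∈ f.range)
    exact hy (hg.symm.trans this)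

theorem stabilizer_index_eq (x : α) :
    (stabilizer (Perm α) x).index = Fintype.card α := by
  rw [index_stabilizer_of_transitive, Nat.card_eq_fintype_card]

theorem stabilizer_conj (x y : α) :
    ∃ g : Perm α, (stabilizer (Perm α) x).map (MulAut.conj g).toMonoidHom = stabilizer (Perm α) y := by
  refine ⟨swap x y, ?_⟩
  rw [← stabilizer_smul_eq_stabilizer_map_conj]
  congr 1
  exact swap_apply_left x y

theorem stabilizer_inj (h3 : 3 ≤ Fintype.card α) {x y : α}
    (h : stabilizer (Perm α) x = stabilizer (Perm α) y) : x = y := by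
  by_contra hne
  obtain ⟨z, hz⟩ : ∃ z, z ∉ ({x, y} : Finset α) := by
    by_contra hc
    push Not at hc
    have := Finset.card_le_card (fun z _ => hc z : (Finset.univ : Finset α) ⊆ {x, y})
    rw [Finset.card_univ] at this
    have := Finset.card_le_two (a := x) (b := y)
    omega
  simp only [Finset.mem_insert, Finset.mem_singleton, not_or] at hz
  have : swap y z ∈ stabilizer (Perm α) x := swap_apply_of_ne_of_ne hne (Ne.symm hz.1)
  rw [h, mem_stabilizer_iff] at this
  exact hz.2 ((swap_apply_left y z).symm.trans this)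

theorem stabilizer_equiv (x : α) :
    Nonempty (stabilizer (Perm α) x ≃* Perm {y : α // y ≠ x}) := by
  have hr : (Perm.ofSubtype (p := fun y : α => y ≠ x)).range = stabilizer (Perm α) x := by
    ext t
    constructor
    · rintro ⟨s, rfl⟩
      exact ofSubtype_apply_of_not_mem s (fun h => h rfl)
    · intro ht
      have ht' : t x = x := ht
      refine ⟨t.subtypePerm (fun z => ⟨fun h h' => h (by rw [h']; exact ht'),
        fun h h' => h (t.injective (h'.trans ht'.symm))⟩),
        ofSubtype_subtypePerm _ fun z hz hzx => hz (hzx ▸ ht')⟩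
  exact ⟨((MonoidHom.ofInjective ofSubtype_injective).trans (MulEquiv.subgroupCongr hr)).symm⟩

end CfsgLib.SymIndex
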