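import Cfsg.Agent.SpecBlow.SwapPerms

/-! Subgroups of index `n` in the symmetric group of degree `n`. -/

set_option autoImplicit false
set_option linter.unusedSectionVars false

namespace CfsgLib.SymIndex

open Equiv Equiv.Perm MulAction

variable {α β : Type*} [Fintype α] [DecidableEq α] [Fintype β] [DecidableEq β]

theorem normal_cases (h5 : 5 ≤ Fintype.card α) (N : Subgroup (Perm α)) [N.Normal] :
    N = ⊥ ∨ alternatingGroup α ≤ N := by
  by_cases h : N = ⊥
  · exact Or.inl h
  · exact Or.inr (Equiv.Perm.alternatingGroup_le_of_normal (by rwa [Nat.card_eq_fintype_card])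
      ((Subgroup.nontrivial_iff_ne_bot N).2 h))

theorem eq_or_eq_of_alternatingGroup_le [Nontrivial α] {H : Subgroup (Perm α)}
    (h : alternatingGroup α ≤ H) : H = alternatingGroup α ∨ H = ⊤ := by
  have h1 := Subgroup.relIndex_mul_index h
  rw [alternatingGroup.index_eq_two] at h1
  rcases (Nat.dvd_prime Nat.prime_two).1 (Dvd.intro_left _ h1) with h2 | h2
  · exact Or.inr (Subgroup.index_eq_one.1 h2)
  · exact Or.inl (eq_alternatingGroup_of_index_eq_two h2)

theorem normalCore_eq_bot {H : Subgroup (Perm α)} (h5 : 5 ≤ Fintype.card α) (hne : H ≠ ⊤)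
    (hA : H ≠ alternatingGroup α) : H.normalCore = ⊥ := by
  have : Nontrivial α := Fintype.one_lt_card_iff_nontrivial.1 (by omega)
  rcases normal_cases h5 H.normalCore with h | h
  · exact h
  · rcases eq_or_eq_of_alternatingGroup_le (h.trans H.normalCore_le) with h' | h'
    · exact absurd h' hA
    · exact absurd h' hne

theorem cosetHom_injective {H : Subgroup (Perm α)} (h5 : 5 ≤ Fintype.card α) (hne : H ≠ ⊤)
    (hA : H ≠ alternatingGroup α) :
    Function.Injective (toPermHom (Perm α) (Perm α ⧸ H)) := by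
  rw [← MonoidHom.ker_eq_bot_iff, ← Subgroup.normalCore_eq_ker, normalCore_eq_bot h5 hne hA]

/-- The index of a proper subgroup other than the alternating group is at least `n`, for `n ≥ 5`. -/
theorem le_index {H : Subgroup (Perm α)} (h5 : 5 ≤ Fintype.card α) (hne : H ≠ ⊤)
    (hA : H ≠ alternatingGroup α) : Fintype.card α ≤ H.index := by
  have h := Nat.card_le_card_of_injective _ (cosetHom_injective h5 hne hA)
  rw [Nat.card_perm, Nat.card_perm, Nat.card_eq_fintype_card, ← Subgroup.index] at h
  by_contra hlt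
  exact absurd h (not_le.2 ((Nat.factorial_lt Subgroup.index_ne_zero_of_finite.bot_lt).2
    (not_le.1 hlt)))

theorem ne_of_index {H : Subgroup (Perm α)} (h3 : 3 ≤ Fintype.card α)
    (hH : H.index = Fintype.card α) : H ≠ ⊤ ∧ H ≠ alternatingGroup α := by
  have : Nontrivial α := Fintype.one_lt_card_iff_nontrivial.1 (by omega)
  constructor
  · rintro rfl
    rw [Subgroup.index_top] at hH; omega
  · rintro rfl
    rw [alternatingGroup.index_eq_two] at hH; omega

/-- The action on the cosets of a subgroup of index `n`. -/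
noncomputable def cosetEquiv (H : Subgroup (Perm α)) (h5 : 5 ≤ Fintype.card α)
    (hH : H.index = Fintype.card α) : Perm α ≃* Perm (Perm α ⧸ H) :=
  MulEquiv.ofBijective (toPermHom (Perm α) (Perm α ⧸ H)) <|
    (Nat.bijective_iff_injective_and_card _).2
      ⟨cosetHom_injective h5 (ne_of_index (by omega) hH).1 (ne_of_index (by omega) hH).2, by
        rw [Nat.card_perm, Nat.card_perm, Nat.card_eq_fintype_card, ← Subgroup.index, hH]⟩

theorem comap_cosetEquiv (H : Subgroup (Perm α)) (h5 : 5 ≤ Fintype.card α)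
    (hH : H.index = Fintype.card α) (g : Perm α) :
    (stabilizer (Perm (Perm α ⧸ H)) (g : Perm α ⧸ H)).comap (cosetEquiv H h5 hH).toMonoidHom =
      stabilizer (Perm α) (g : Perm α ⧸ H) := by
  ext x
  rfl

theorem card_centralizer_image (e : Perm α ≃* Perm β) (s : Perm α) :
    Nat.card (Subgroup.centralizer ({e s} : Set (Perm β))) =
      Nat.card (Subgroup.centralizer ({s} : Set (Perm α))) := by
  refine Nat.card_congr (e.toEquiv.subtypeEquiv fun x => ?_).symm
  show x ∈ Subgroup.centralizer ({s} : Set (Perm α)) ↔ e x ∈ Subgroup.centralizer ({e s} : Set (Perm β))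
  rw [Subgroup.mem_centralizer_singleton_iff, Subgroup.mem_centralizer_singleton_iff, ← map_mul,
    ← map_mul, e.injective.eq_iff]

theorem swap_mul_self' {s : Perm α} (hs : s.IsSwap) : s * s = 1 := by
  obtain ⟨a, b, -, rfl⟩ := hs
  exact swap_mul_self a b

theorem isSwap_map (e : Perm α ≃* Perm β) (hn : 5 ≤ Fintype.card α) (h6 : Fintype.card α ≠ 6)
    (hc : Fintype.card β = Fintype.card α) {s : Perm α} (hs : s.IsSwap) : (e s).IsSwap := by
  have h2 : e s * e s = 1 := by rw [← map_mul, swap_mul_self' hs, map_one]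
  have hcard : Nat.card (Subgroup.centralizer ({e s} : Set (Perm β))) =
      2 * (Fintype.card β - 2).factorial := by
    rw [card_centralizer_image, SwapPerms.card_centralizer_swap hs, hc]
  by_cases h7 : 7 ≤ Fintype.card β
  · exact SwapPerms.isSwap_of_card_centralizer h7 h2 hcard
  have h5 : Fintype.card β = 5 := by omega
  have hes1 : e s ≠ 1 := by
    intro h
    obtain ⟨a, b, hab, rfl⟩ := hs
    exact hab (swap_eq_one_iff.1 ((map_eq_one_iff e e.injective).1 h))
  obtain ⟨k, hk⟩ : ∃ k, (e s).cycleType = Multiset.replicate k 2 := by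
    refine ⟨Multiset.card (e s).cycleType, Multiset.eq_replicate_card.2 fun i hi => ?_⟩
    have h1 := dvd_of_mem_cycleType hi
    have h2' : orderOf (e s) ∣ 2 := orderOf_dvd_of_pow_eq_one (by rw [pow_two, h2])
    exact ((Nat.dvd_prime Nat.prime_two).1 (h1.trans h2')).resolve_left
      (by have := two_le_of_mem_cycleType hi; omega)
  have hsum : 2 * k ≤ 5 := by
    have := (e s).sum_cycleType
    rw [hk, Multiset.sum_replicate, smul_eq_mul] at this
    have := (e s).support.card_le_univ
    omega
  rw [nat_card_centralizer (e s), hk, h5] at hcard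
  obtain rfl | rfl | rfl : k = 0 ∨ k = 1 ∨ k = 2 := by omega
  · exact absurd (cycleType_eq_zero.1 (by simpa using hk)) hes1
  · rw [isSwap_iff_cycleType, hk]; rfl
  · simp [Multiset.replicate_succ, Multiset.toFinset, Nat.factorial] at hcard

theorem isSwap_conj {s t : Perm α} (hs : s.IsSwap) (ht : t.IsSwap) : IsConj s t := by
  rw [isConj_iff_cycleType_eq, isSwap_iff_cycleType.1 hs, isSwap_iff_cycleType.1 ht]

theorem mem_closure_fix (p : β) (t : Perm β) (ht : t p = p) :
    t ∈ Subgroup.closure {t : Perm β | t.IsSwap ∧ t p = p} := by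
  let q : β → Prop := fun z => z ≠ p
  have hmaps : ∀ z, q z ↔ q (t z) := fun z =>
    ⟨fun h h' => h (t.injective (h'.trans ht.symm)), fun h h' => h (h'.symm ▸ ht)⟩
  have ht' : t = Perm.ofSubtype (t.subtypePerm (fun z => (hmaps z).symm)) := by
    refine (ofSubtype_subtypePerm _ fun z hz => ?_).symm
    intro h
    exact hz (h ▸ ht)
  rw [ht']
  have : t.subtypePerm (fun z => (hmaps z).symm) ∈ Subgroup.closure {s : Perm {z // q z} | s.IsSwap} := by
    rw [closure_isSwap]; trivial
  have h2 := Subgroup.mem_map_of_mem (Perm.ofSubtype (p := q)) this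
  rw [MonoidHom.map_closure] at h2
  refine Subgroup.closure_mono ?_ h2
  rintro _ ⟨s, hs, rfl⟩
  refine ⟨hs.of_subtype_isSwap, ?_⟩
  exact ofSubtype_apply_of_not_mem s (fun h => h rfl)

theorem card_swap_set {γ : Type*} [Fintype γ] [DecidableEq γ] :
    Nat.card {s : Perm γ // s.IsSwap} = (Fintype.card γ).choose 2 := by
  rw [← Fintype.card_finset_len, ← Nat.card_eq_fintype_card]
  refine Nat.card_congr (Equiv.ofBijective (fun s => ⟨s.1.support, SwapPerms.support_card s.2⟩) ⟨?_, ?_⟩)
  · intro s t h
    exact Subtype.ext (SwapPerms.eq_of_support_eq s.2 t.2 (congrArg Subtype.val h))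
  · rintro ⟨u, hu⟩
    obtain ⟨a, b, hab, rfl⟩ := Finset.card_eq_two.1 hu
    exact ⟨⟨swap a b, a, b, hab, rfl⟩, Subtype.ext (support_swap hab)⟩

theorem isSwap_symm (e : Perm α ≃* Perm β) (hc : Fintype.card β = Fintype.card α)
    (he : ∀ s : Perm α, s.IsSwap → (e s).IsSwap) {t : Perm β} (ht : t.IsSwap) :
    (e.symm t).IsSwap := by
  have hb : Function.Bijective
      (fun s : {s : Perm α // s.IsSwap} => (⟨e s.1, he _ s.2⟩ : {t : Perm β // t.IsSwap})) := by
    refine (Nat.bijective_iff_injective_and_card _).2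
      ⟨fun a b h => Subtype.ext (e.injective (congrArg Subtype.val h)), ?_⟩
    rw [card_swap_set, card_swap_set, hc]
  obtain ⟨⟨s, hs⟩, hst⟩ := hb.2 ⟨t, ht⟩
  rw [← show e s = t from congrArg Subtype.val hst, e.symm_apply_apply]
  exact hs

/-- An isomorphism preserving transpositions preserves point stabilisers. -/
theorem comap_stabilizer (e : Perm α ≃* Perm β) (hn : 3 ≤ Fintype.card α)
    (hc : Fintype.card β = Fintype.card α) (he : ∀ s : Perm α, s.IsSwap → (e s).IsSwap) (p : β) :
    ∃ x : α, (stabilizer (Perm β) p).comap e.toMonoidHom = stabilizer (Perm α) x := by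
  classical
  set H := (stabilizer (Perm β) p).comap e.toMonoidHom with hH
  have hmem : ∀ g, g ∈ H ↔ e g p = p := fun g => Iff.rfl
  have hHne : H ≠ ⊤ := by
    intro h
    obtain ⟨q, hq⟩ := Fintype.exists_ne_of_one_lt_card (show 1 < Fintype.card β by omega) p
    have := (hmem (e.symm (swap p q))).1 (h ▸ Subgroup.mem_top _)
    rw [e.apply_symm_apply, swap_apply_left] at this
    exact hq this
  have hout : Nat.card {s : Perm α // s.IsSwap ∧ s ∉ H} = Fintype.card α - 1 := by
    have h1 : Nat.card {s : Perm α // s.IsSwap ∧ s ∉ H} = Nat.card {q : β // q ≠ p} := by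
      symm
      refine Nat.card_congr (Equiv.ofBijective (fun q =>
        ⟨e.symm (swap p q.1), isSwap_symm e hc he ⟨p, q.1, q.2.symm, rfl⟩, fun h => ?_⟩) ⟨?_, ?_⟩)
      · have := (hmem _).1 h
        rw [e.apply_symm_apply, swap_apply_left] at this
        exact q.2 this
      · intro a b h
        have h' := e.symm.injective (congrArg Subtype.val h)
        have := congrArg (fun f : Perm β => f p) h'
        simp only [swap_apply_left] at this
        exact Subtype.ext this
      · rintro ⟨s, hs, hsH⟩
        have hmv : e s p ≠ p := fun h => hsH ((hmem s).2 h)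
        refine ⟨⟨e s p, hmv⟩, Subtype.ext ?_⟩
        show e.symm (swap p (e s p)) = s
        obtain ⟨c, d, hcd, hcd'⟩ := he s hs
        rw [← e.symm_apply_apply s]
        congr 1
        rw [e.apply_symm_apply]
        rw [hcd'] at hmv ⊢
        by_cases hp1 : p = c
        · subst hp1; rw [swap_apply_left]
        by_cases hp2 : p = d
        · subst hp2; rw [swap_apply_right, swap_comm]
        exact absurd (swap_apply_of_ne_of_ne hp1 hp2) hmv
    rw [h1, Nat.card_eq_fintype_card, Fintype.card_subtype_compl, Fintype.card_subtype_eq, hc]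
  obtain ⟨u, v, huv⟩ : ∃ u v : α, swap u v ∉ H := by
    by_contra h
    push Not at h
    refine hHne (eq_top_iff.2 ?_)
    rw [← closure_isSwap, Subgroup.closure_le]
    rintro _ ⟨a, b, -, rfl⟩
    exact h a b
  let A : Finset α := Finset.univ.filter fun z => swap u z ∈ H
  have huA : u ∈ A := by simp [A, ← Perm.one_def, one_mem]
  have hvA : v ∉ A := by simp [A, huv]
  have hcross : ∀ a ∈ A, ∀ b, b ∉ A → a ≠ b ∧ swap a b ∉ H := by
    intro a ha b hb
    have hab : a ≠ b := fun e => hb (e ▸ ha)
    simp only [A, Finset.mem_filter, Finset.mem_univ, true_and] at ha hb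
    refine ⟨hab, fun h => hb ?_⟩
    by_cases hau : a = u
    · rwa [hau] at h
    by_cases hbu : b = u
    · rw [hbu, swap_self]; exact one_mem H
    have e1 : swap u b = swap u a * swap a b * swap u a := by
      rw [← swap_mul_swap_mul_swap (x := b) (y := a) (z := u) hab.symm hbu]
      rw [swap_comm b a, swap_comm a u, swap_comm u a]
    rw [e1]
    exact mul_mem (mul_mem ha h) ha
  have hle : A.card * Aᶜ.card ≤ Fintype.card α - 1 := by
    rw [← hout, Nat.card_eq_fintype_card, ← Finset.card_product]
    refine le_trans (Finset.card_le_card_of_injOn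
      (t := Finset.univ.filter fun s : Perm α => s.IsSwap ∧ s ∉ H) (fun z => swap z.1 z.2) ?_ ?_) ?_
    · rintro ⟨a, b⟩ hab
      rw [Finset.mem_coe, Finset.mem_product, Finset.mem_compl] at hab
      rw [Finset.mem_coe, Finset.mem_filter]
      exact ⟨Finset.mem_univ _, ⟨a, b, (hcross a hab.1 b hab.2).1, rfl⟩, (hcross a hab.1 b hab.2).2⟩
    · rintro ⟨a, b⟩ hab ⟨c, d⟩ hcd h
      rw [Finset.mem_coe, Finset.mem_product, Finset.mem_compl] at hab hcd
      have hne := (hcross a hab.1 b hab.2).1
      have hs := congrArg Perm.support h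
      rw [support_swap hne, support_swap (hcross c hcd.1 d hcd.2).1] at hs
      have ha : a ∈ ({c, d} : Finset α) := hs ▸ Finset.mem_insert_self a _
      have hb : b ∈ ({c, d} : Finset α) := hs ▸ Finset.mem_insert_of_mem (Finset.mem_singleton_self b)
      simp only [Finset.mem_insert, Finset.mem_singleton] at ha hb
      rcases ha with rfl | rfl
      · rcases hb with rfl | rfl
        · exact absurd rfl hne
        · rfl
      · exact absurd hab.1 hcd.2
    · rw [Fintype.card_subtype]
  have hsum := A.card_add_card_compl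
  have hA1 : 1 ≤ A.card := Finset.card_pos.2 ⟨u, huA⟩
  have hA2 : 1 ≤ Aᶜ.card := Finset.card_pos.2 ⟨v, Finset.mem_compl.2 hvA⟩
  obtain ⟨x, B, hxB, hB⟩ : ∃ (x : α) (B : Finset α), B = {x} ∧ (B = A ∨ B = Aᶜ) := by
    have : A.card = 1 ∨ Aᶜ.card = 1 := by
      by_contra hh
      push Not at hh
      obtain ⟨i, hi⟩ : ∃ i, A.card = i + 2 := ⟨A.card - 2, by omega⟩
      obtain ⟨j, hj⟩ : ∃ j, Aᶜ.card = j + 2 := ⟨Aᶜ.card - 2, by omega⟩
      rw [hi, hj] at hle
      have e : (i + 2) * (j + 2) = i * j + 2 * i + 2 * j + 4 := by ring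
      omega
    rcases this with h | h <;> obtain ⟨x, hx⟩ := Finset.card_eq_one.1 h
    · exact ⟨x, A, hx, Or.inl rfl⟩
    · exact ⟨x, Aᶜ, hx, Or.inr rfl⟩
  refine ⟨x, ?_⟩
  have hfix : ∀ s : Perm α, s.IsSwap → s ∈ H → s x = x := by
    rintro _ ⟨a, b, hab, rfl⟩ hs
    by_contra hne
    have hxab : x = a ∨ x = b := by
      by_contra hc'
      push Not at hc'
      exact hne (swap_apply_of_ne_of_ne hc'.1 hc'.2)
    obtain ⟨w, hwx, hxw⟩ : ∃ w, w ≠ x ∧ swap x w ∈ H := by
      rcases hxab with rfl | rfl
      · exact ⟨b, hab.symm, hs⟩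
      · exact ⟨a, hab, swap_comm a x ▸ hs⟩
    have hwB : w ∉ B := by rw [hxB, Finset.mem_singleton]; exact hwx
    have hxB' : x ∈ B := by rw [hxB]; exact Finset.mem_singleton_self x
    rcases hB with rfl | rfl
    · exact (hcross x hxB' w hwB).2 hxw
    · exact (hcross w (by simpa using hwB) x (Finset.mem_compl.1 hxB')).2 (swap_comm x w ▸ hxw)
  have hHle : H ≤ stabilizer (Perm α) x := by
    intro g hg
    -- the stabiliser of `p` is generated by transpositions
    have hgen := fun t ht => mem_closure_fix p t ht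
    have h2 := hgen (e g) ((hmem g).1 hg)
    have key : ∀ t ∈ Subgroup.closure {t : Perm β | t.IsSwap ∧ t p = p},
        e.symm t ∈ stabilizer (Perm α) x := by
      intro t ht
      induction ht using Subgroup.closure_induction with
      | mem t ht => exact hfix _ (isSwap_symm e hc he ht.1) ((hmem _).2 (by rw [e.apply_symm_apply]; exact ht.2))
      | one => rw [map_one]; exact one_mem _
      | mul a b _ _ ha hb => rw [map_mul]; exact mul_mem ha hb
      | inv a _ ha => rw [map_inv]; exact inv_mem ha
    have := key _ h2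
    rw [e.symm_apply_apply] at this
    exact this
  refine Subgroup.eq_of_le_of_card_ge hHle (le_of_eq ?_)
  have h1 := Subgroup.card_mul_index (stabilizer (Perm α) x)
  have h2 := Subgroup.card_mul_index (stabilizer (Perm β) p)
  rw [index_stabilizer_of_transitive, Nat.card_perm] at h1 h2
  rw [Nat.card_eq_fintype_card (α := α)] at h1
  rw [Nat.card_eq_fintype_card (α := β)] at h2
  rw [hc] at h2
  have h3 : Nat.card H = Nat.card (stabilizer (Perm β) p) :=
    Nat.card_congr (e.toEquiv.subtypeEquiv fun g => Iff.rfl)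
  rw [h3]
  exact Nat.eq_of_mul_eq_mul_right (show 0 < Fintype.card α by omega) (h1.trans h2.symm)

end CfsgLib.SymIndex
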