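import Cfsg.Agent.SimplePower.BlockMax

/-! A maximal subgroup of a maximal subgroup which is not second maximal. -/

set_option autoImplicit false
set_option linter.unusedSectionVars false

namespace CfsgLib.BlockMax

open Equiv Equiv.Perm MulAction
open scoped Pointwise

theorem mem_setStab {α : Type*} [Fintype α] {s : Set α} {g : Perm α} :
    g ∈ stabilizer (Perm α) s ↔ ∀ x, x ∈ s → g x ∈ s := by
  rw [MulAction.mem_stabilizer_set_iff_smul_set_subset s.toFinite]
  exact ⟨fun h x hx => h ⟨x, hx, rfl⟩, fun h => by rintro _ ⟨x, hx, rfl⟩; exact h x hx⟩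

theorem not_second_maximal (m : ℕ) (hm : 2 ≤ m) :
    ∃ M H K : Subgroup (Perm (Fin (2 * m))), IsCoatom M ∧ M.index = 2 * m ∧ H ≤ M ∧
      IsCoatom (H.subgroupOf M) ∧ IsCoatom K ∧ H ≤ K ∧ ¬ IsCoatom (H.subgroupOf K) := by
  classical
  have : Nontrivial (Fin (2 * m)) := Fin.nontrivial_iff_two_le.2 (by omega)
  let o : Fin (2 * m) := ⟨0, by omega⟩
  let s : Set (Fin (2 * m)) := {x | x.val < m}
  let f : Fin (2 * m) → Fin 2 := fun x => if x.val < m then 0 else 1
  have hfx : ∀ x y, f x = f y ↔ (x ∈ s ↔ y ∈ s) := fun x y => by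
    simp only [f, s, Set.mem_ofPred_eq]; split <;> split <;> simp_all <;> omega
  have hf : ∀ i : Fin 2, Nat.card {x : Fin (2 * m) // f x = i} = m := by
    intro i
    have hlt : ∀ x : Fin (2 * m), f x = 0 ↔ x.val < m := fun x => by
      simp only [f]; split <;> simp_all
    have hge : ∀ x : Fin (2 * m), f x = 1 ↔ m ≤ x.val := fun x => by
      simp only [f]; split <;> simp_all <;> omega
    match i with
    | 0 =>
      exact (Nat.card_congr (β := Fin m)
        ⟨fun x => ⟨x.1.val, (hlt x.1).1 x.2⟩, fun j => ⟨⟨j.val, by omega⟩, (hlt _).2 j.isLt⟩,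
          fun x => rfl, fun j => rfl⟩).trans (Nat.card_fin m)
    | 1 =>
      let fwd : {x : Fin (2 * m) // f x = 1} → Fin m :=
        fun x => ⟨x.1.val - m, by have := x.1.isLt; omega⟩
      let back : Fin m → {x : Fin (2 * m) // f x = 1} :=
        fun j => ⟨⟨j.val + m, by omega⟩, (hge _).2 (Nat.le_add_left m j.val)⟩
      have h1 : ∀ x, back (fwd x) = x := fun x => Subtype.ext (Fin.ext (by
        show x.1.val - m + m = x.1.val
        have := (hge x.1).1 x.2
        omega))
      have h2 : ∀ j, fwd (back j) = j := fun j => Fin.ext (Nat.add_sub_cancel j.val m)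
      exact (Nat.card_congr ⟨fwd, back, h1, h2⟩).trans (Nat.card_fin m)
  let M := stabilizer (Perm (Fin (2 * m))) o
  let H := M ⊓ stabilizer (Perm (Fin (2 * m))) s
  have hstabK : ∀ g ∈ stabilizer (Perm (Fin (2 * m))) s, g ∈ blockGrp f := by
    intro g hg
    refine mem_iff.2 fun x y => ?_
    have key : ∀ z, g z ∈ s ↔ z ∈ s := fun z => MulAction.mem_stabilizer_set.1 hg z
    rw [hfx, hfx, key, key]
  refine ⟨M, H, blockGrp f, IsPreprimitive.isCoatom_stabilizer_of_isPreprimitive _ o, ?_,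
    inf_le_left, ?_, isCoatom_blockGrp hf hm le_rfl, fun g hg => hstabK g hg.2, ?_⟩
  · rw [MulAction.index_stabilizer_of_transitive, Nat.card_fin]
  · let φ : Perm {x : Fin (2 * m) // x ≠ o} →* Perm (Fin (2 * m)) := ofSubtype
    let s' : Set {x : Fin (2 * m) // x ≠ o} := {x | x.1 ∈ s}
    have hne : s'.Nonempty := ⟨⟨⟨1, by omega⟩, by simp [o, Fin.ext_iff]⟩, by simp [s', s]; omega⟩
    have hcne : s'ᶜ.Nonempty := ⟨⟨⟨m, by omega⟩, by simp [o, Fin.ext_iff]; omega⟩, by simp [s', s]⟩
    have hcard : Nat.card {x : Fin (2 * m) // x ≠ o} ≠ 2 * s'.ncard := by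
      rw [Nat.card_eq_fintype_card, Fintype.card_subtype_compl, Fintype.card_subtype_eq,
        Fintype.card_fin]
      omega
    have hco := Equiv.Perm.isCoatom_stabilizer hne hcne hcard
    have hφM : ∀ p, φ p ∈ M := fun p => ofSubtype_apply_of_not_mem p (by simp)
    have hMφ : ∀ g ∈ M, ∃ p, φ p = g := by
      intro g hg
      have hgo : g o = o := hg
      have h1 : ∀ x, g x ≠ o ↔ x ≠ o := fun x => by
        rw [not_iff_not]
        exact ⟨fun e => g.injective (e.trans hgo.symm), fun e => e ▸ hgo⟩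
      refine ⟨g.subtypePerm h1, ofSubtype_subtypePerm h1 fun x hx e => hx (e ▸ hgo)⟩
    have hφH : ∀ p, φ p ∈ H ↔ p ∈ stabilizer _ s' := by
      intro p
      simp only [H, Subgroup.mem_inf, hφM p, true_and, mem_setStab]
      constructor
      · intro h x hx
        have := h x.1 hx
        rwa [show φ p x.1 = p x from ofSubtype_apply_coe p x] at this
      · intro h x hx
        by_cases hxo : x = o
        · rw [hxo, show φ p o = o from hφM p]; simp [s, o]; omega
        · rw [show φ p x = p ⟨x, hxo⟩ from ofSubtype_apply_coe p ⟨x, hxo⟩]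
          exact h ⟨x, hxo⟩ hx
    refine ⟨fun htop => hco.1 ?_, fun L hL => ?_⟩
    · rw [eq_top_iff]
      exact fun p _ => (hφH p).1 (Subgroup.subgroupOf_eq_top.1 htop (hφM p))
    · let L' := (L.map M.subtype).comap φ
      have hlt : stabilizer (Perm {x : Fin (2 * m) // x ≠ o}) s' < L' := by
        obtain ⟨hle, ⟨g, hg⟩, hgL, hgH⟩ := SetLike.lt_iff_le_and_exists.1 hL
        refine SetLike.lt_iff_le_and_exists.2 ⟨fun p hp => ?_, ?_⟩
        · exact ⟨⟨φ p, hφM p⟩, hle (Subgroup.mem_subgroupOf.2 ((hφH p).2 hp)), rfl⟩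
        · obtain ⟨p, hp⟩ := hMφ g hg
          refine ⟨p, ⟨⟨g, hg⟩, hgL, hp.symm⟩, fun hc => hgH (Subgroup.mem_subgroupOf.2 ?_)⟩
          show g ∈ H
          rw [← hp]; exact (hφH p).2 hc
      have htop := hco.2 L' hlt
      rw [eq_top_iff]
      rintro ⟨g, hg⟩ -
      obtain ⟨p, hp⟩ := hMφ g hg
      obtain ⟨g', hg', e⟩ : p ∈ L' := htop ▸ Subgroup.mem_top p
      exact (Subtype.ext (e.trans hp) : g' = ⟨g, hg⟩) ▸ hg'
  · intro hco
    have hK := isCoatom_blockGrp hf hm le_rfl
    let S := (stabilizer (Perm (Fin (2 * m))) s).subgroupOf (blockGrp f)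
    have hle : H.subgroupOf (blockGrp f) ≤ S := fun g hg => hg.2
    have h01 : swap o ⟨1, by omega⟩ ∈ blockGrp f := swap_mem (by simp [f, o, show 0 < m by omega, show 1 < m by omega])
    have hlt : H.subgroupOf (blockGrp f) < S := by
      refine SetLike.lt_iff_le_and_exists.2 ⟨hle, ⟨_, h01⟩, Subgroup.mem_subgroupOf.2 ?_, fun hc => ?_⟩
      · refine mem_setStab.2 fun x hx => ?_
        simp only [s, Set.mem_ofPred_eq, swap_apply_def, o] at hx ⊢
        split_ifs <;> (try simp) <;> omega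
      · have : swap o (⟨1, by omega⟩ : Fin (2 * m)) o = o := (Subgroup.mem_subgroupOf.1 hc).1
        simp [o, Fin.ext_iff] at this
    have htop := hco.2 S hlt
    obtain ⟨w, hw, hwf⟩ := exists_lift hf (swap 0 1)
    have hwS : w ∈ stabilizer (Perm (Fin (2 * m))) s :=
      Subgroup.mem_subgroupOf.1 (htop ▸ Subgroup.mem_top (⟨w, hw⟩ : blockGrp f) : (⟨w, hw⟩ : blockGrp f) ∈ S)
    have h1 := mem_setStab.1 hwS o (by simp [s, o]; omega)
    have h2 := hwf o
    simp only [s, Set.mem_ofPred_eq] at h1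
    simp [f, h1, o, show (0 : ℕ) < m by omega] at h2

end CfsgLib.BlockMax
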