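import Mathlib.GroupTheory.SemidirectProduct
import Mathlib.GroupTheory.Index
import Mathlib.LinearAlgebra.Dual.Lemmas
import Mathlib.LinearAlgebra.FreeModule.Finite.Basic
import Mathlib.FieldTheory.Finite.Basic
import Mathlib.Algebra.Group.Subgroup.Order

/-! A maximal subgroup of prime power index with a maximal subgroup which is not second maximal. -/

set_option autoImplicit false

namespace CfsgLib.AffineSecond

open Submodule

variable {F V : Type*} [Field F] [AddCommGroup V] [Module F V]

theorem exists_dual (e v v' : V) (hv : v ∉ span F {e}) (hv' : v' ∉ span F {e}) :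
    ∃ φ : V →ₗ[F] F, φ e = 0 ∧ φ v = 1 ∧ φ v' ≠ 0 := by
  obtain ⟨a, ha, ha0⟩ := exists_dual_map_eq_bot_of_notMem hv inferInstance
  obtain ⟨b, hb, hb0⟩ := exists_dual_map_eq_bot_of_notMem hv' inferInstance
  have kill : ∀ φ : V →ₗ[F] F, (span F {e}).map φ = ⊥ → φ e = 0 := fun φ h =>
    (mem_bot F).1 (h ▸ mem_map_of_mem (mem_span_singleton_self e))
  obtain ⟨φ, he, h1, h2⟩ : ∃ φ : V →ₗ[F] F, φ e = 0 ∧ φ v ≠ 0 ∧ φ v' ≠ 0 := by
    by_cases h : a v' = 0
    · by_cases h' : b v = 0
      · exact ⟨a + b, by simp [kill a ha0, kill b hb0], by simpa [h'] using ha, by simpa [h] using hb⟩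
      · exact ⟨b, kill b hb0, h', hb⟩
    · exact ⟨a, kill a ha0, ha, h⟩
  exact ⟨(φ v)⁻¹ • φ, by simp [he], by simp [h1], by simp [h1, h2]⟩

theorem exists_equiv (e v v' : V) (hv : v ∉ span F {e}) (hv' : v' ∉ span F {e}) :
    ∃ g : V ≃ₗ[F] V, g e = e ∧ g v = v' := by
  obtain ⟨φ, he, h1, h2⟩ := exists_dual e v v' hv hv'
  refine ⟨{ toFun := fun x => x + φ x • (v' - v)
            invFun := fun x => x - ((φ v')⁻¹ * φ x) • (v' - v)
            map_add' := fun x y => by rw [map_add, add_smul]; abel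
            map_smul' := fun c x => by simp [smul_add, smul_smul]
            left_inv := fun x => ?_
            right_inv := fun x => ?_ }, ?_, ?_⟩
  · have : φ (x + φ x • (v' - v)) = φ x * φ v' := by simp [h1]; ring
    show x + φ x • (v' - v) - ((φ v')⁻¹ * φ (x + φ x • (v' - v))) • (v' - v) = x
    rw [this, show (φ v')⁻¹ * (φ x * φ v') = φ x by field_simp]
    abel
  · have : φ (x - ((φ v')⁻¹ * φ x) • (v' - v)) = (φ v')⁻¹ * φ x := by
      simp [h1]; field_simp; ring
    show x - ((φ v')⁻¹ * φ x) • (v' - v) + φ (x - ((φ v')⁻¹ * φ x) • (v' - v)) • (v' - v) = x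
    rw [this]
    abel
  · show e + φ e • (v' - v) = e
    simp [he]
  · show v + φ v • (v' - v) = v'
    simp [h1]

/-- The linear maps sending a vector into its line. -/
def lineStab [FiniteDimensional F V] (e : V) (he : e ≠ 0) : Subgroup (V ≃ₗ[F] V) where
  carrier := {g | g e ∈ span F {e}}
  one_mem' := mem_span_singleton_self e
  mul_mem' {a b} ha hb := by
    obtain ⟨c, hc⟩ := mem_span_singleton.1 (show b e ∈ span F {e} from hb)
    show a (b e) ∈ span F {e}
    rw [← hc, map_smul]
    exact smul_mem _ _ ha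
  inv_mem' {a} ha := by
    obtain ⟨c, hc⟩ := mem_span_singleton.1 (show a e ∈ span F {e} from ha)
    have hc0 : c ≠ 0 := fun h => he (a.injective (by rw [map_zero, ← hc, h, zero_smul]))
    show a.symm e ∈ span F {e}
    refine mem_span_singleton.2 ⟨c⁻¹, a.injective ?_⟩
    rw [map_smul, ← hc, smul_smul, inv_mul_cancel₀ hc0, one_smul, LinearEquiv.apply_symm_apply]

theorem isCoatom_lineStab [FiniteDimensional F V] (e : V) (he : e ≠ 0) {w : V}
    (hw : w ∉ span F {e}) : IsCoatom (lineStab (F := F) e he) := by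
  have h0 : e ∉ span F {(0 : V)} := by simpa using he
  have hw0 : w ∉ span F {(0 : V)} := by
    simp only [span_zero_singleton, mem_bot]
    exact fun h => hw (h ▸ zero_mem _)
  obtain ⟨g, -, hg⟩ := exists_equiv (F := F) 0 e w h0 hw0
  refine ⟨fun htop => hw ?_, fun L hL => ?_⟩
  · have : g ∈ lineStab (F := F) e he := htop ▸ Subgroup.mem_top g
    exact hg ▸ this
  obtain ⟨hle, h, hh, hhS⟩ := SetLike.lt_iff_le_and_exists.1 hL
  rw [eq_top_iff]
  intro k _
  by_cases hk : k e ∈ span F {e}
  · exact hle hk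
  obtain ⟨s, hse, hs⟩ := exists_equiv (F := F) e (h e) (k e) hhS hk
  have hsL : s ∈ L := hle (show s e ∈ span F {e} by rw [hse]; exact mem_span_singleton_self e)
  have : (s * h)⁻¹ * k ∈ L := hle (show ((s * h)⁻¹ * k : V ≃ₗ[F] V) e ∈ span F {e} by
    show (s * h).symm (k e) ∈ span F {e}
    rw [← hs, show s (h e) = (s * h) e from rfl, LinearEquiv.symm_apply_apply]
    exact mem_span_singleton_self e)
  have := L.mul_mem (L.mul_mem hsL hh) this
  rwa [mul_inv_cancel_left] at this

/-- The action of the linear group on vectors, multiplicatively. -/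
def act : (V ≃ₗ[F] V) →* MulAut (Multiplicative V) where
  toFun g := AddEquiv.toMultiplicative g.toAddEquiv
  map_one' := rfl
  map_mul' _ _ := rfl

theorem main (p d : ℕ) (hp : p.Prime) (hd : 2 ≤ d) :
    ∃ (G : Type) (_ : Group G) (_ : Finite G) (M H K : Subgroup G), IsCoatom M ∧ M.index = p ^ d ∧
      H ≤ M ∧ IsCoatom (H.subgroupOf M) ∧ IsCoatom K ∧ H ≤ K ∧ ¬ IsCoatom (H.subgroupOf K) := by
  classical
  have : Fact p.Prime := ⟨hp⟩
  let W := Fin d → ZMod p
  let L := W ≃ₗ[ZMod p] W
  let G := SemidirectProduct (Multiplicative W) L act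
  have : Finite L := Finite.of_injective (fun g : L => (g : W → W)) DFunLike.coe_injective
  have : Finite G := Finite.of_equiv _ SemidirectProduct.equivProd.symm
  let e : W := Pi.single ⟨0, by omega⟩ 1
  let w : W := Pi.single ⟨1, by omega⟩ 1
  have he : e ≠ 0 := fun h => by
    have : (Pi.single (⟨0, by omega⟩ : Fin d) (1 : ZMod p) : Fin d → ZMod p) ⟨0, by omega⟩ = 0 :=
      congrFun h _
    rw [Pi.single_eq_same] at this
    exact one_ne_zero this
  have hw : w ∉ span (ZMod p) {e} := by
    intro h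
    obtain ⟨c, hc⟩ := mem_span_singleton.1 h
    have : c • (Pi.single (⟨0, by omega⟩ : Fin d) (1 : ZMod p) : Fin d → ZMod p) ⟨1, by omega⟩ =
        (Pi.single (⟨1, by omega⟩ : Fin d) (1 : ZMod p) : Fin d → ZMod p) ⟨1, by omega⟩ :=
      congrFun hc _
    rw [Pi.single_eq_same, Pi.single_eq_of_ne (by simp [Fin.ext_iff]), smul_zero] at this
    exact zero_ne_one this
  have hS := isCoatom_lineStab (F := ZMod p) e he hw
  let inr : L →* G := SemidirectProduct.inr
  let M := inr.range
  let H := (lineStab (F := ZMod p) e he).map inr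
  let π : G →* L := SemidirectProduct.rightHom
  let K := (lineStab (F := ZMod p) e he).comap π
  have hπ : Function.Surjective π := SemidirectProduct.rightHom_surjective
  have hM : ∀ x : G, x ∈ M ↔ x.left = 1 := fun x =>
    ⟨fun ⟨g, hg⟩ => hg ▸ SemidirectProduct.left_inr g,
      fun h => ⟨x.right, SemidirectProduct.ext (by rw [h]; rfl) rfl⟩⟩
  have hcard : Nat.card G = p ^ d * Nat.card L := by
    rw [Nat.card_congr SemidirectProduct.equivProd, Nat.card_prod]
    congr 1
    rw [Nat.card_congr Multiplicative.toAdd, Nat.card_fun, Nat.card_zmod, Nat.card_fin]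
  have hMc : Nat.card M = Nat.card L :=
    Nat.card_congr (MonoidHom.ofInjective SemidirectProduct.inr_injective).symm.toEquiv
  refine ⟨G, inferInstance, inferInstance, M, H, K, ⟨fun htop => ?_, fun X hX => ?_⟩, ?_,
    Subgroup.map_le_range _ _, ?_, Subgroup.isCoatom_comap_of_surjective hπ hS, ?_, ?_⟩
  · have := (hM ⟨Multiplicative.ofAdd e, 1⟩).1 (htop ▸ Subgroup.mem_top _)
    exact he (Multiplicative.ofAdd.injective this)
  · obtain ⟨hle, x, hx, hxM⟩ := SetLike.lt_iff_le_and_exists.1 hX
    rw [hM] at hxM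
    have hinr : ∀ g : L, inr g ∈ X := fun g => hle ⟨g, rfl⟩
    have hl : ∀ a : Multiplicative W, (SemidirectProduct.inl a : G) ∈ X := by
      have h1 : (SemidirectProduct.inl x.left : G) ∈ X := by
        have := X.mul_mem hx (X.inv_mem (hinr x.right))
        rwa [show x * (inr x.right)⁻¹ = SemidirectProduct.inl x.left from
          mul_inv_eq_iff_eq_mul.2 (SemidirectProduct.inl_left_mul_inr_right x).symm] at this
      intro a
      by_cases ha : a = 1
      · rw [ha, map_one]; exact X.one_mem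
      · have n0 : ∀ b : Multiplicative W, b ≠ 1 → b.toAdd ∉ span (ZMod p) {(0 : W)} := fun b hb => by
          simpa using hb
        obtain ⟨g, -, hg⟩ := exists_equiv (F := ZMod p) 0 x.left.toAdd a.toAdd (n0 _ hxM) (n0 _ ha)
        have := X.mul_mem (X.mul_mem (hinr g) h1) (X.inv_mem (hinr g))
        rwa [← map_inv, ← SemidirectProduct.inl_aut, show act g x.left = a from
          Multiplicative.toAdd.injective hg] at this
    rw [eq_top_iff]
    intro y _
    rw [← SemidirectProduct.inl_left_mul_inr_right y]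
    exact X.mul_mem (hl _) (hinr _)
  · have := M.card_mul_index
    rw [hMc, hcard, mul_comm (p ^ d)] at this
    exact Nat.eq_of_mul_eq_mul_left Nat.card_pos this
  · refine ⟨fun htop => ?_, fun X hX => ?_⟩
    · refine hS.1 (eq_top_iff.2 fun g _ => ?_)
      obtain ⟨g', hg', e'⟩ := Subgroup.subgroupOf_eq_top.1 htop ⟨g, rfl⟩
      exact SemidirectProduct.inr_injective e' ▸ hg'
    · let Y := (X.map M.subtype).comap inr
      have hlt : lineStab (F := ZMod p) e he < Y := by
        obtain ⟨hle, ⟨_, g, rfl⟩, hgX, hgH⟩ := SetLike.lt_iff_le_and_exists.1 hX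
        refine SetLike.lt_iff_le_and_exists.2 ⟨fun k hk => ?_, g, ?_, fun hc =>
          hgH (Subgroup.mem_subgroupOf.2 ⟨g, hc, rfl⟩)⟩
        rotate_left
        · exact ⟨_, hgX, rfl⟩
        exact ⟨⟨inr k, k, rfl⟩, hle (Subgroup.mem_subgroupOf.2 ⟨k, hk, rfl⟩), rfl⟩
      have htop := hS.2 Y hlt
      rw [eq_top_iff]
      rintro ⟨_, g, rfl⟩ -
      obtain ⟨g', hg', e'⟩ : g ∈ Y := htop ▸ Subgroup.mem_top g
      have e2 : g' = (⟨inr g, g, rfl⟩ : M) := Subtype.ext e'
      exact e2 ▸ hg'
  · rintro _ ⟨g, hg, rfl⟩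
    exact hg
  · intro hco
    let S : Subgroup G :=
      { carrier := {x | x.left.toAdd ∈ span (ZMod p) {e} ∧ x.right ∈ lineStab (F := ZMod p) e he}
        one_mem' := ⟨zero_mem _, one_mem _⟩
        mul_mem' := fun {a b} ha hb => by
          refine ⟨?_, mul_mem ha.2 hb.2⟩
          show a.left.toAdd + a.right b.left.toAdd ∈ _
          obtain ⟨c, hc⟩ := mem_span_singleton.1 hb.1
          rw [← hc, map_smul]
          exact add_mem ha.1 (smul_mem _ _ ha.2)
        inv_mem' := fun {a} ha => by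
          refine ⟨?_, inv_mem ha.2⟩
          show (a.right⁻¹ : L) (-a.left.toAdd) ∈ _
          obtain ⟨c, hc⟩ := mem_span_singleton.1 ha.1
          rw [map_neg, ← hc, map_smul]
          exact neg_mem (smul_mem _ _ ((lineStab (F := ZMod p) e he).inv_mem ha.2)) }
    have hHS : H ≤ S := by
      rintro _ ⟨g, hg, rfl⟩
      exact ⟨zero_mem _, hg⟩
    have hxK : (⟨Multiplicative.ofAdd e, 1⟩ : G) ∈ K := one_mem (lineStab (F := ZMod p) e he)
    have hlt : H.subgroupOf K < S.subgroupOf K := by
      refine SetLike.lt_iff_le_and_exists.2 ⟨fun x hx => hHS hx, ⟨_, hxK⟩, ?_, fun hc => ?_⟩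
      · exact ⟨mem_span_singleton_self e, one_mem _⟩
      obtain ⟨g, -, hg⟩ := Subgroup.mem_subgroupOf.1 hc
      exact he (Multiplicative.ofAdd.injective
        (show Multiplicative.ofAdd e = 1 from (congrArg SemidirectProduct.left hg).symm))
    have hyK : (⟨Multiplicative.ofAdd w, 1⟩ : G) ∈ K := one_mem (lineStab (F := ZMod p) e he)
    exact hw (show (⟨_, hyK⟩ : K) ∈ S.subgroupOf K from hco.2 _ hlt ▸ Subgroup.mem_top _).1

end CfsgLib.AffineSecond
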