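import Mathlib.GroupTheory.SemidirectProduct
import Mathlib.GroupTheory.Solvable
import Mathlib.GroupTheory.SpecificGroups.Alternating
import Mathlib.GroupTheory.SpecificGroups.Alternating.MaximalSubgroups
import Mathlib.Algebra.Group.Subgroup.Order
import Mathlib.Algebra.Group.Pi.Lemmas
import Mathlib.GroupTheory.SpecificGroups.Alternating.Simple

/-! Perfect groups with solvable maximal subgroups of large derived length. -/

set_option autoImplicit false

namespace CfsgLib.PerfectSolvMax

open Equiv
open scoped commutatorElement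

variable (S : Type) [Group S]

/-- Permuting coordinates. -/
def shift : alternatingGroup (Fin 5) →* MulAut (Fin 5 → S) where
  toFun σ :=
    { toFun := fun y k => y ((σ : Perm (Fin 5)).symm k)
      invFun := fun y k => y ((σ : Perm (Fin 5)) k)
      left_inv := fun y => funext fun k => by simp
      right_inv := fun y => funext fun k => by simp
      map_mul' := fun _ _ => rfl }
  map_one' := rfl
  map_mul' _ _ := rfl

/-- The wreath product with the alternating group of degree five. -/
abbrev Wr := SemidirectProduct (Fin 5 → S) (alternatingGroup (Fin 5)) (shift S)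

/-- The pair element. -/
def pr (i j : Fin 5) (a : S) : Fin 5 → S := Pi.mulSingle i a * Pi.mulSingle j a⁻¹

/-- The perfect subgroup. -/
def big : Subgroup (Wr S) :=
  Subgroup.closure ({x | ∃ i j a, i ≠ j ∧ x = SemidirectProduct.inl (pr S i j a)} ∪
    Set.range SemidirectProduct.inr)

variable {S}

theorem inl_pr_mem {i j : Fin 5} (h : i ≠ j) (a : S) :
    (SemidirectProduct.inl (pr S i j a) : Wr S) ∈ big S :=
  Subgroup.subset_closure (Or.inl ⟨i, j, a, h, rfl⟩)

theorem inr_mem (σ : alternatingGroup (Fin 5)) : (SemidirectProduct.inr σ : Wr S) ∈ big S :=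
  Subgroup.subset_closure (Or.inr ⟨σ, rfl⟩)

theorem shift_single (σ : alternatingGroup (Fin 5)) (i : Fin 5) (a : S) :
    shift S σ (Pi.mulSingle i a) = Pi.mulSingle ((σ : Perm (Fin 5)) i) a := by
  funext k
  show (Pi.mulSingle i a : Fin 5 → S) ((σ : Perm (Fin 5)).symm k) = _
  rcases eq_or_ne k ((σ : Perm (Fin 5)) i) with rfl | hk
  · simp
  · rw [Pi.mulSingle_eq_of_ne hk, Pi.mulSingle_eq_of_ne]
    exact fun e => hk (by rw [← e, Equiv.apply_symm_apply])

theorem comm_pair {i j k : Fin 5} (σ : alternatingGroup (Fin 5)) (hij : i ≠ j) (hik : i ≠ k)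
    (hjk : j ≠ k) (hi : (σ : Perm (Fin 5)) i = j) (hk : (σ : Perm (Fin 5)) k = k) (a : S) :
    ⁅(SemidirectProduct.inr σ : Wr S), (SemidirectProduct.inl (pr S i k a) : Wr S)⁆ =
      (SemidirectProduct.inl (pr S j i a) : Wr S) := by
  rw [commutatorElement_def, ← map_inv SemidirectProduct.inr σ, ← SemidirectProduct.inl_aut,
    ← map_inv, ← map_mul]
  congr 1
  rw [pr, map_mul, shift_single, shift_single, hi, hk]
  funext l
  simp only [pr, Pi.mul_apply, Pi.inv_apply]
  rcases eq_or_ne l k with rfl | hlk
  · simp [hik.symm, hjk.symm]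
  rcases eq_or_ne l i with rfl | hli
  · simp [hij, hik]
  simp [hlk, hli]

theorem exists_three_cycle (i j k : Fin 5) (hij : i ≠ j) (hik : i ≠ k) (hjk : j ≠ k) :
    ∃ σ : alternatingGroup (Fin 5), (σ : Perm (Fin 5)) i = j ∧ (σ : Perm (Fin 5)) k = k ∧
      (i ≠ 0 → j ≠ 0 → (σ : Perm (Fin 5)) 0 = 0) := by
  obtain ⟨l, hl1, hl2, hl3, hl4⟩ : ∃ l : Fin 5, l ≠ i ∧ l ≠ j ∧ l ≠ k ∧ l ≠ 0 := by
    revert hij hik hjk; revert i j k; decide +kernel
  refine ⟨⟨swap i j * swap j l, ?_⟩, ?_, ?_, ?_⟩
  · rw [Perm.mem_alternatingGroup, map_mul, Perm.sign_swap hij, Perm.sign_swap hl2.symm]; rfl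
  · show swap i j (swap j l i) = j
    rw [swap_apply_of_ne_of_ne hij hl1.symm, swap_apply_left]
  · show swap i j (swap j l k) = k
    rw [swap_apply_of_ne_of_ne hjk.symm hl3.symm, swap_apply_of_ne_of_ne hik.symm hjk.symm]
  · intro hi hj
    show swap i j (swap j l 0) = 0
    rw [swap_apply_of_ne_of_ne hj.symm hl4.symm, swap_apply_of_ne_of_ne hi.symm hj.symm]

theorem a5_perfect : commutator (alternatingGroup (Fin 5)) = ⊤ := by
  have hs : IsSimpleGroup (alternatingGroup (Fin 5)) :=
    alternatingGroup.isSimpleGroup (by simp)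
  refine (inferInstance : (commutator (alternatingGroup (Fin 5))).Normal).eq_bot_or_eq_top.resolve_left ?_
  intro hb
  let a : alternatingGroup (Fin 5) :=
    ⟨swap 0 1 * swap 1 2, by rw [Perm.mem_alternatingGroup]; decide +kernel⟩
  let b : alternatingGroup (Fin 5) :=
    ⟨swap 2 3 * swap 3 4, by rw [Perm.mem_alternatingGroup]; decide +kernel⟩
  have h1 : ⁅a, b⁆ ∈ commutator (alternatingGroup (Fin 5)) :=
    Subgroup.commutator_mem_commutator (Subgroup.mem_top a) (Subgroup.mem_top b)
  rw [hb, Subgroup.mem_bot, commutatorElement_eq_one_iff_mul_comm] at h1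
  have : ((a * b : alternatingGroup (Fin 5)) : Perm (Fin 5)) 2 ≠
      ((b * a : alternatingGroup (Fin 5)) : Perm (Fin 5)) 2 := by decide +kernel
  exact this (by rw [h1])

theorem big_perfect : commutator (big S) = ⊤ := by
  have key : big S ≤ ⁅big S, big S⁆ := by
    refine Subgroup.closure_le _ |>.2 ?_
    rintro x (⟨i, j, a, hij, rfl⟩ | ⟨σ, rfl⟩)
    · obtain ⟨k, hk1, hk2⟩ : ∃ k : Fin 5, k ≠ i ∧ k ≠ j := by
        revert hij; revert i j; decide +kernel
      obtain ⟨σ, h1, h2, -⟩ := exists_three_cycle j i k hij.symm hk2.symm hk1.symm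
      rw [SetLike.mem_coe, ← comm_pair σ hij.symm hk2.symm hk1.symm h1 h2 a]
      exact Subgroup.commutator_mem_commutator (inr_mem σ) (inl_pr_mem hk2.symm a)
    · have : σ ∈ commutator (alternatingGroup (Fin 5)) := a5_perfect ▸ Subgroup.mem_top σ
      rw [SetLike.mem_coe]
      refine (Subgroup.commutator_le.2 ?_ :
        commutator (alternatingGroup (Fin 5)) ≤ ⁅big S, big S⁆.comap SemidirectProduct.inr) this
      intro a _ b _
      show ⁅a, b⁆ ∈ ⁅big S, big S⁆.comap SemidirectProduct.inr
      rw [Subgroup.mem_comap, map_commutatorElement]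
      exact Subgroup.commutator_mem_commutator (inr_mem a) (inr_mem b)
  refine Subgroup.map_injective (f := (big S).subtype) (Subgroup.subtype_injective _) ?_
  rw [commutator_def, Subgroup.map_commutator, ← MonoidHom.range_eq_map, Subgroup.range_subtype]
  exact le_antisymm (Subgroup.commutator_le_self _) key

variable (S)

/-- The solvable maximal subgroup. -/
def top5 : Subgroup (big S) :=
  (MulAction.stabilizer (alternatingGroup (Fin 5)) (0 : Fin 5)).comap
    (SemidirectProduct.rightHom.comp (big S).subtype)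

variable {S}

theorem top5_coatom : IsCoatom (top5 S) := by
  refine Subgroup.isCoatom_comap_of_surjective (fun σ => ⟨⟨_, inr_mem σ⟩, rfl⟩) ?_
  have : MulAction.IsPreprimitive (alternatingGroup (Fin 5)) (Fin 5) :=
    alternatingGroup.isPreprimitive_of_three_le_card _ (by simp)
  exact MulAction.IsPreprimitive.isCoatom_stabilizer_of_isPreprimitive _ _

/-- The four-group on `1, 2, 3, 4`. -/
def four : List (Perm (Fin 5)) := [1, swap 1 2 * swap 3 4, swap 1 3 * swap 2 4, swap 1 4 * swap 2 3]

set_option maxRecDepth 100000 in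
theorem four_comm : ∀ a ∈ four, ∀ b ∈ four, a * b = b * a := by decide +kernel

set_option maxRecDepth 100000 in
theorem comm_four : ∀ a : Perm (Fin 5), a 0 = 0 → Perm.sign a = 1 →
    ∀ b : Perm (Fin 5), b 0 = 0 → Perm.sign b = 1 → a * b * a⁻¹ * b⁻¹ ∈ four := by decide +kernel

theorem a4_solvable :
    Group.IsSolvable (MulAction.stabilizer (alternatingGroup (Fin 5)) (0 : Fin 5)) := by
  let T := MulAction.stabilizer (alternatingGroup (Fin 5)) (0 : Fin 5)
  let φ : T →* Perm (Fin 5) := (alternatingGroup (Fin 5)).subtype.comp T.subtype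
  have hφ : Function.Injective φ := fun x y e => Subtype.ext (Subtype.ext e)
  let A : Subgroup (Perm (Fin 5)) := Subgroup.closure {a | a ∈ four}
  have hA : ∀ x ∈ A, ∀ y ∈ A, x * y = y * x := by
    have hc : A ≤ Subgroup.centralizer {a | a ∈ four} := by
      rw [Subgroup.closure_le]
      exact fun x hx => Subgroup.mem_centralizer_iff.2 fun y hy => four_comm y hy x hx
    have hc2 : A ≤ Subgroup.centralizer (A : Set (Perm (Fin 5))) := by
      rw [Subgroup.closure_le]
      exact fun x hx => Subgroup.mem_centralizer_iff.2 fun y hy =>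
        ((Subgroup.mem_centralizer_iff.1 (hc hy)) x hx).symm
    exact fun x hx y hy => Subgroup.mem_centralizer_iff.1 (hc2 hy) x hx
  have h1 : derivedSeries T 1 ≤ A.comap φ := by
    rw [derivedSeries_one, commutator_def, Subgroup.commutator_le]
    intro a _ b _
    refine Subgroup.subset_closure ?_
    show φ ⁅a, b⁆ ∈ four
    rw [map_commutatorElement, commutatorElement_def]
    exact comm_four _ a.2 a.1.2 _ b.2 b.1.2
  refine (Group.isSolvable_def T).2 ⟨2, ?_⟩
  rw [derivedSeries_succ, Subgroup.commutator_eq_bot_iff_le_centralizer]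
  exact fun x hx => Subgroup.mem_centralizer_iff.2 fun y hy =>
    hφ (by rw [map_mul, map_mul]; exact hA _ (h1 hy) _ (h1 hx))

theorem top5_solvable (hS : Group.IsSolvable S) : Group.IsSolvable (top5 S) := by
  let g : top5 S →* MulAction.stabilizer (alternatingGroup (Fin 5)) (0 : Fin 5) :=
    (SemidirectProduct.rightHom.comp (big S).subtype).subgroupComap _
  let f : g.ker →* Fin 5 → S :=
    { toFun := fun x => ((x : top5 S) : big S).1.left
      map_one' := rfl
      map_mul' := fun x y => by
        have hx : ((x : top5 S) : big S).1.right = 1 := congrArg Subtype.val x.2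
        show ((x : top5 S) : big S).1.left * shift S ((x : top5 S) : big S).1.right
          ((y : top5 S) : big S).1.left = _
        rw [hx, map_one]; rfl }
  have hf : Function.Injective f := fun x y e => by
    have hx : ((x : top5 S) : big S).1.right = 1 := congrArg Subtype.val x.2
    have hy : ((y : top5 S) : big S).1.right = 1 := congrArg Subtype.val y.2
    exact Subtype.ext (Subtype.ext (Subtype.ext (SemidirectProduct.ext e (hx.trans hy.symm))))
  have : Group.IsSolvable (Fin 5 → S) := by
    obtain ⟨n, hn⟩ := (Group.isSolvable_def S).1 hS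
    refine (Group.isSolvable_def _).2 ⟨n, (Subgroup.eq_bot_iff_forall _).2 fun x hx => funext fun i => ?_⟩
    have := map_derivedSeries_le_derivedSeries (Pi.evalMonoidHom (fun _ : Fin 5 => S) i) n
      (Subgroup.mem_map_of_mem _ hx)
    rw [hn, Subgroup.mem_bot] at this
    exact this
  have := Group.isSolvable_of_isSolvable_injective hf
  have := a4_solvable
  exact Group.isSolvable_of_ker_le_range g.ker.subtype g (by rw [Subgroup.range_subtype])

/-- The derived series of the subgroup inside the wreath product. -/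
theorem derived_top5 {d : ℕ} (hd : derivedSeries S d ≠ ⊥) : derivedSeries (top5 S) (d + 1) ≠ ⊥ := by
  let φ : top5 S →* Wr S := (big S).subtype.comp (top5 S).subtype
  let E : ℕ → Subgroup (Wr S) := fun n => (derivedSeries (top5 S) n).map φ
  have hE : ∀ n, E (n + 1) = ⁅E n, E n⁆ := fun n => Subgroup.map_commutator _ _ φ
  have h0 : ∀ i j : Fin 5, i ≠ j → ∀ a, SemidirectProduct.inl (pr S i j a) ∈ E 0 := fun i j h a =>
    ⟨⟨⟨_, inl_pr_mem h a⟩, one_mem (MulAction.stabilizer (alternatingGroup (Fin 5)) (0 : Fin 5))⟩,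
      Subgroup.mem_top _, rfl⟩
  have h0' : ∀ σ : alternatingGroup (Fin 5), (σ : Perm (Fin 5)) 0 = 0 →
      SemidirectProduct.inr σ ∈ E 0 := fun σ h =>
    ⟨⟨⟨_, inr_mem σ⟩, h⟩, Subgroup.mem_top _, rfl⟩
  have h1 : ∀ i j : Fin 5, i ≠ j → i ≠ 0 → j ≠ 0 → ∀ a,
      SemidirectProduct.inl (pr S i j a) ∈ E 1 := by
    intro i j hij hi hj a
    obtain ⟨σ, e1, e2, e3⟩ := exists_three_cycle j i 0 hij.symm hj hi
    rw [← comm_pair σ hij.symm hj hi e1 e2 a, hE 0]
    exact Subgroup.commutator_mem_commutator (h0' σ (e3 hj hi)) (h0 j 0 hj a)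
  let f : S →* Wr S := SemidirectProduct.inl.comp (MonoidHom.mulSingle (fun _ : Fin 5 => S) 1)
  have hf : Function.Injective f :=
    SemidirectProduct.inl_injective.comp (Pi.mulSingle_injective (M := fun _ : Fin 5 => S) 1)
  have h2 : ∀ j, (derivedSeries S (j + 1)).map f ≤ E (j + 2) := by
    intro j
    induction j with
    | zero =>
      rw [Subgroup.map_le_iff_le_comap, derivedSeries_succ, Subgroup.commutator_le]
      intro a _ b _
      rw [Subgroup.mem_comap, hE 1]
      have : f ⁅a, b⁆ =
          ⁅(SemidirectProduct.inl (pr S 1 2 a) : Wr S), SemidirectProduct.inl (pr S 1 3 b)⁆ := by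
        rw [← map_commutatorElement]
        show SemidirectProduct.inl (Pi.mulSingle (M := fun _ : Fin 5 => S) 1 ⁅a, b⁆) = _
        congr 1
        funext l
        fin_cases l <;> simp [pr, commutatorElement_def]
      rw [this]
      exact Subgroup.commutator_mem_commutator (h1 1 2 (by decide) (by decide) (by decide) a)
        (h1 1 3 (by decide) (by decide) (by decide) b)
    | succ j ih =>
      rw [derivedSeries_succ S (j + 1), Subgroup.map_commutator, hE (j + 2)]
      exact Subgroup.commutator_mono ih ih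
  intro hb
  have hEb : E (d + 1) = ⊥ := by
    show (derivedSeries (top5 S) (d + 1)).map φ = ⊥
    rw [hb, Subgroup.map_bot]
  rcases d with _ | d
  · obtain ⟨a, -, ha⟩ := SetLike.exists_of_lt (bot_lt_iff_ne_bot.2 hd)
    have := h1 1 2 (by decide) (by decide) (by decide) a
    rw [hEb, Subgroup.mem_bot] at this
    have h := congrFun (congrArg SemidirectProduct.left this) 1
    simp [pr] at h
    exact ha h
  · have := h2 d
    rw [hEb, le_bot_iff, Subgroup.map_eq_bot_iff_of_injective _ hf] at this
    exact hd this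

theorem exists_solvable : ∀ d : ℕ, ∃ (S : Type) (_ : Group S) (_ : Finite S),
    Group.IsSolvable S ∧ derivedSeries S d ≠ ⊥
  | 0 => ⟨Multiplicative (ZMod 2), inferInstance, inferInstance, inferInstance, by
      rw [derivedSeries_zero]; exact top_ne_bot⟩
  | d + 1 => by
    obtain ⟨S, _, _, hS, hd⟩ := exists_solvable d
    have : Finite (Wr S) := Finite.of_equiv _ SemidirectProduct.equivProd.symm
    exact ⟨top5 S, inferInstance, inferInstance, top5_solvable hS, derived_top5 hd⟩

theorem main (d : ℕ) : ∃ (G : Type) (_ : Group G) (_ : Finite G) (H : Subgroup G),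
    commutator G = ⊤ ∧ IsCoatom H ∧ Group.IsSolvable H ∧ derivedSeries H d ≠ ⊥ := by
  obtain ⟨S, _, _, hS, hd⟩ := exists_solvable d
  have : Finite (Wr S) := Finite.of_equiv _ SemidirectProduct.equivProd.symm
  exact ⟨big S, inferInstance, inferInstance, top5 S, big_perfect, top5_coatom,
    top5_solvable hS, fun hb => derived_top5 hd (by rw [derivedSeries_succ, hb, Subgroup.commutator_bot_left])⟩

end CfsgLib.PerfectSolvMax
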