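import Mathlib

/-! Complements in subgroup lattices. -/

set_option autoImplicit false

namespace CfsgLib.Lattice

/-- Complements from a relatively complemented interval below the only maximal overgroup. -/
theorem key {G : Type*} [Group G] [Finite G] (T X M : Subgroup G) (hTX : T ≤ X)
    (hint : ∀ Y : Subgroup G, T ≤ Y → Y ≤ X → ∃ C : Subgroup G, T ≤ C ∧ C ≤ X ∧ Y ⊔ C = X ∧ Y ⊓ C = T)
    (huniq : ∀ M' : Subgroup G, IsCoatom M' → X ≤ M' → M' = M)
    (H : Subgroup G) (hH : ¬ H ≤ M) (hHT : H ⊓ T = ⊥) :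
    ∃ C : Subgroup G, H ⊔ C = ⊤ ∧ H ⊓ C = ⊥ := by
  obtain ⟨C, hTC, hCX, hsup, hinf⟩ := hint (T ⊔ H ⊓ X) le_sup_left (sup_le hTX inf_le_right)
  refine ⟨C, ?_, ?_⟩
  · by_contra hne
    obtain ⟨M', hM', hle⟩ := (eq_top_or_exists_le_coatom (H ⊔ C)).resolve_left hne
    have hX : X ≤ M' := by
      rw [← hsup]
      exact sup_le (sup_le (hTC.trans (le_sup_right.trans hle))
        (inf_le_left.trans (le_sup_left.trans hle))) (le_sup_right.trans hle)
    exact hH (huniq M' hM' hX ▸ le_sup_left.trans hle)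
  · rw [eq_bot_iff, ← hHT]
    refine le_inf inf_le_left ?_
    rw [← hinf]
    exact le_inf (le_trans (le_inf inf_le_left (inf_le_right.trans hCX)) le_sup_right) inf_le_right

theorem exists_conj_not_le {G : Type*} [Group G] (M H : Subgroup G) (hH : ¬ H ≤ M.normalCore) :
    ∃ g : G, ¬ H.map (MulAut.conj g).toMonoidHom ≤ M := by
  by_contra hc
  push Not at hc
  refine hH fun h hh g => ?_
  exact hc g ⟨h, hh, rfl⟩

theorem complement_of_map {G : Type*} [Group G] (e : G ≃* G) (H : Subgroup G)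
    (h : ∃ C, H.map e.toMonoidHom ⊔ C = ⊤ ∧ H.map e.toMonoidHom ⊓ C = ⊥) :
    ∃ C, H ⊔ C = ⊤ ∧ H ⊓ C = ⊥ := by
  obtain ⟨C, h1, h2⟩ := h
  refine ⟨C.map e.symm.toMonoidHom, ?_, ?_⟩
  · apply Subgroup.map_injective (f := e.toMonoidHom) e.injective
    rw [Subgroup.map_sup, Subgroup.map_map, Subgroup.map_top_of_surjective _ e.surjective,
      show e.toMonoidHom.comp e.symm.toMonoidHom = MonoidHom.id G by ext; simp, Subgroup.map_id, h1]
  · apply Subgroup.map_injective (f := e.toMonoidHom) e.injective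
    rw [Subgroup.map_inf _ _ _ e.injective, Subgroup.map_map, Subgroup.map_bot,
      show e.toMonoidHom.comp e.symm.toMonoidHom = MonoidHom.id G by ext; simp, Subgroup.map_id, h2]

end CfsgLib.Lattice
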