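import Cfsg.Agent.SimplePower.BlockMax

/-! The partition of six points into three pairs. -/

set_option autoImplicit false
set_option linter.unusedSectionVars false

namespace CfsgLib.BlockMax

open Equiv Equiv.Perm

/-- The values of a permutation of six points. -/
def code (g : Perm (Fin 6)) : List ℕ := List.ofFn fun i => (g i : ℕ)

/-- Composition of value lists. -/
def cmp (a b : List ℕ) : List ℕ := b.map fun i => a.getD i 0

/-- The inverse value list. -/
def invC (l : List ℕ) : List ℕ := (List.range 6).map fun i => l.idxOf i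

theorem code_mul (g h : Perm (Fin 6)) : code (g * h) = cmp (code g) (code h) := by
  simp only [code, cmp, List.map_ofFn]
  apply List.ext_getElem (by simp)
  intro i hi hi'
  simp only [List.getElem_ofFn, Function.comp_apply]
  rw [List.getD_eq_getElem _ _ (by simp), List.getElem_ofFn]
  rfl

theorem code_injective : Function.Injective code := by
  intro g h e
  refine Equiv.ext fun i => Fin.ext ?_
  have := List.ofFn_injective e
  exact congrFun this i

theorem code_inv (g : Perm (Fin 6)) : code g⁻¹ = invC (code g) := by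
  apply List.ext_getElem (by simp [code, invC])
  intro i hi hi'
  have hi6 : i < 6 := by simpa [code] using hi
  simp only [code, invC, List.getElem_ofFn, List.getElem_map, List.getElem_range]
  have hnd : (List.ofFn fun j => (g j : ℕ)).Nodup :=
    List.nodup_ofFn.2 fun a b e => g.injective (Fin.ext e)
  have hj : ((g⁻¹ ⟨i, hi6⟩ : Fin 6) : ℕ) < (List.ofFn fun j => (g j : ℕ)).length := by simp
  have h1 := hnd.idxOf_getElem _ hj
  rw [List.getElem_ofFn] at h1
  simp only [Perm.inv_def, Fin.eta, g.apply_symm_apply] at h1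
  exact h1.symm

/-- Three generators of the even stabiliser of the partition `01|23|45`. -/
def gen : Fin 3 → Perm (Fin 6)
  | 0 => swap 0 1 * swap 2 3
  | 1 => swap 0 2 * swap 2 4 * (swap 1 3 * swap 3 5)
  | 2 => swap 0 2 * swap 1 3

/-- Value of a word. -/
def evalW : List (Fin 3) → Perm (Fin 6)
  | [] => 1
  | i :: w => gen i * evalW w

/-- The block of a point. -/
def blk (x : Fin 6) : Fin 3 := ⟨x.val / 2, by omega⟩

theorem evalW_mem (w : List (Fin 3)) : evalW w ∈ blockGrp blk ⊓ alternatingGroup (Fin 6) := by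
  induction w with
  | nil => exact one_mem _
  | cons i w ih =>
    refine mul_mem ⟨mem_iff.2 ?_, ?_⟩ ih
    · revert i; decide +kernel
    · show Perm.sign (gen i) = 1
      revert i; decide +kernel

/-- Elements of the even stabiliser used in the table, with words for them. -/
def cands : List ((List ℕ × List (Fin 3)) × (List ℕ × List (Fin 3)) × Bool) :=
  [(([1, 0, 3, 2, 4, 5], [0]), ([1, 0, 3, 2, 4, 5], [0]), true),
   (([2, 3, 0, 1, 4, 5], [2]), ([1, 0, 3, 2, 4, 5], [0]), true),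
   (([3, 2, 1, 0, 4, 5], [2, 0]), ([1, 0, 3, 2, 4, 5], [0]), true),
   (([1, 0, 2, 3, 5, 4], [1, 1, 0, 1]), ([1, 0, 2, 3, 5, 4], [1, 1, 0, 1]), true),
   (([2, 3, 0, 1, 4, 5], [2]), ([1, 0, 2, 3, 5, 4], [1, 1, 0, 1]), true),
   (([3, 2, 1, 0, 4, 5], [2, 0]), ([1, 0, 2, 3, 5, 4], [1, 1, 0, 1]), true),
   (([0, 1, 3, 2, 5, 4], [1, 0, 1, 1]), ([0, 1, 3, 2, 5, 4], [1, 0, 1, 1]), true)]

/-- The target 3-cycles. -/
def goodC : List (List ℕ) :=
  [[0, 1, 2, 4, 5, 3],
   [0, 1, 2, 5, 3, 4],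
   [0, 1, 3, 4, 2, 5],
   [0, 1, 3, 5, 4, 2],
   [0, 1, 4, 2, 3, 5],
   [0, 1, 4, 3, 5, 2],
   [0, 1, 5, 2, 4, 3],
   [0, 1, 5, 3, 2, 4],
   [0, 2, 3, 1, 4, 5],
   [0, 3, 1, 2, 4, 5],
   [0, 4, 2, 3, 5, 1],
   [0, 5, 2, 3, 1, 4],
   [1, 2, 0, 3, 4, 5],
   [1, 3, 2, 0, 4, 5],
   [1, 4, 2, 3, 0, 5],
   [1, 5, 2, 3, 4, 0],
   [2, 0, 1, 3, 4, 5],
   [2, 1, 3, 0, 4, 5],
   [3, 0, 2, 1, 4, 5],
   [3, 1, 0, 2, 4, 5],
   [4, 0, 2, 3, 1, 5],
   [4, 1, 2, 3, 5, 0],
   [5, 0, 2, 3, 4, 1],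
   [5, 1, 2, 3, 0, 4]]

/-- The partner of a point. -/
def par (x : Fin 6) : Fin 6 :=
  ⟨if x.val % 2 = 0 then x.val + 1 else x.val - 1, by split <;> omega⟩

set_option maxRecDepth 100000 in
theorem goodC_spec : ∀ g ∈ goodC, ∃ x y : Fin 6, blk y ≠ blk x ∧ code (c3 x (par x) y) = g := by
  decide +kernel

set_option maxRecDepth 100000 in
theorem cands_spec : ∀ c ∈ cands, code (evalW c.1.2) = c.1.1 ∧ code (evalW c.2.1.2) = c.2.1.1 := by
  decide +kernel

/-- Does the value list preserve the blocks? -/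
def keepsC (l : List ℕ) : Bool :=
  (List.range 6).all fun x => (List.range 6).all fun y =>
    (x / 2 == y / 2) == (l.getD x 0 / 2 == l.getD y 0 / 2)

/-- One candidate settles the value list. -/
def settles (l : List ℕ) (c : (List ℕ × List (Fin 3)) × (List ℕ × List (Fin 3)) × Bool) : Bool :=
  if c.2.2 then goodC.contains (cmp (cmp (cmp l c.1.1) (invC l)) c.2.1.1)
  else goodC.contains (cmp (cmp l c.1.1) c.2.1.1)

set_option maxRecDepth 100000 in
theorem table : ((List.range 6).permutations'.all fun l => keepsC l || cands.any (settles l)) = true := by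
  decide +kernel

theorem exists_c3_six (L : Subgroup (Perm (Fin 6)))
    (hle : blockGrp blk ⊓ alternatingGroup (Fin 6) ≤ L) {h : Perm (Fin 6)} (hh : h ∈ L)
    (hnot : h ∉ blockGrp blk) :
    ∃ x x' y, x' ≠ x ∧ blk x' = blk x ∧ blk y ≠ blk x ∧ c3 x x' y ∈ L := by
  have hl : code h ∈ (List.range 6).permutations' := by
    refine List.mem_permutations'.2 ((List.perm_ext_iff_of_nodup
      (List.nodup_ofFn.2 fun a b e => h.injective (Fin.ext e)) List.nodup_range).2 fun z => ?_)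
    simp only [code, List.mem_ofFn, List.mem_range]
    exact ⟨fun ⟨i, hi⟩ => hi ▸ (h i).isLt,
      fun hz => ⟨h⁻¹ ⟨z, hz⟩, by rw [Perm.inv_def, h.apply_symm_apply]⟩⟩
  have hgood : ∀ g ∈ L, code g ∈ goodC →
      ∃ x x' y, x' ≠ x ∧ blk x' = blk x ∧ blk y ≠ blk x ∧ c3 x x' y ∈ L := by
    intro g hg hgc
    obtain ⟨x, y, hy, e⟩ := goodC_spec _ hgc
    refine ⟨x, par x, y, ?_, ?_, hy, (code_injective e).symm ▸ hg⟩
    · intro e
      have := congrArg Fin.val e
      simp only [par] at this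
      split at this <;> omega
    · apply Fin.ext
      simp only [blk, par]
      split <;> omega
  have ht := List.all_eq_true.1 table (code h) hl
  rw [Bool.or_eq_true] at ht
  rcases ht with hk | hc
  · refine absurd (mem_iff.2 fun x y => ?_) hnot
    have h1 := (List.all_eq_true.1 ((List.all_eq_true.1 hk) x.val (List.mem_range.2 x.isLt)))
      y.val (List.mem_range.2 y.isLt)
    simp only [code, List.getD_eq_getElem?_getD, List.getElem?_ofFn, x.isLt, y.isLt, dite_true,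
      Option.getD_some, beq_iff_eq] at h1
    simp only [blk, Fin.ext_iff]
    have h2 : ((x.val / 2 == y.val / 2) = true) ↔ (((h x).val / 2 == (h y).val / 2) = true) := by rw [h1]
    simpa using h2
  · obtain ⟨c, hc, hs⟩ := List.any_eq_true.1 hc
    obtain ⟨ea, eb⟩ := cands_spec c hc
    have hga := hle (evalW_mem c.1.2)
    have hgb := hle (evalW_mem c.2.1.2)
    simp only [settles, ← ea, ← eb] at hs
    rw [← code_inv, ← code_mul, ← code_mul, ← code_mul, ← code_mul] at hs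
    split at hs
    · exact hgood _ (mul_mem (mul_mem (mul_mem hh hga) (inv_mem hh)) hgb) (by simpa using hs)
    · exact hgood _ (mul_mem (mul_mem hh hga) hgb) (by simpa using hs)

theorem conj_blockGrp {Ω Ω' : Type*} (e : Ω ≃ Ω') {β β' : Type*} {f : Ω → β} {f' : Ω' → β'}
    (hf : ∀ x y, f x = f y ↔ f' (e x) = f' (e y)) (g : Perm Ω) :
    e.permCongrHom g ∈ blockGrp f' ↔ g ∈ blockGrp f := by
  rw [mem_iff, mem_iff]
  constructor
  · intro h x y
    have := h (e x) (e y)
    simp only [permCongrHom_coe, permCongr_apply, e.symm_apply_apply] at this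
    rwa [← hf, ← hf] at this
  · intro h x y
    have := h (e.symm x) (e.symm y)
    rw [hf, hf, e.apply_symm_apply, e.apply_symm_apply] at this
    simpa only [permCongrHom_coe, permCongr_apply] using this

theorem conj_c3 {Ω Ω' : Type*} [DecidableEq Ω] [DecidableEq Ω'] (e : Ω ≃ Ω') (p q r : Ω) :
    e.permCongrHom (c3 p q r) = c3 (e p) (e q) (e r) := by
  rw [c3, c3, map_mul]
  congr 1 <;> exact Equiv.symm_trans_swap_trans _ _ e

theorem exists_c3_three_pairs {Ω : Type*} [Fintype Ω] [DecidableEq Ω] {f : Ω → Fin 3}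
    (hf : ∀ i : Fin 3, Nat.card {x : Ω // f x = i} = 2) (L : Subgroup (Perm Ω))
    (hle : blockGrp f ⊓ alternatingGroup Ω ≤ L) {h : Perm Ω} (hh : h ∈ L) (hnot : h ∉ blockGrp f) :
    ∃ x x' y, x' ≠ x ∧ f x' = f x ∧ f y ≠ f x ∧ c3 x x' y ∈ L := by
  obtain ⟨e₀, he₀⟩ := exists_coord hf
  let e : Ω ≃ Fin 6 := e₀.trans finProdFinEquiv
  have hblk : ∀ x, blk (e x) = f x := fun x => by
    rw [← he₀ x]
    apply Fin.ext
    simp only [blk, e, Equiv.trans_apply, finProdFinEquiv, Equiv.coe_fn_mk]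
    omega
  have hiff : ∀ x y, f x = f y ↔ blk (e x) = blk (e y) := fun x y => by rw [hblk, hblk]
  have hsign : ∀ g : Perm Ω, Perm.sign (e.permCongrHom g) = Perm.sign g := fun g =>
    sign_permCongr e g
  let L' : Subgroup (Perm (Fin 6)) := L.map e.permCongrHom.toMonoidHom
  have hle' : blockGrp blk ⊓ alternatingGroup (Fin 6) ≤ L' := by
    rintro g ⟨hg1, hg2⟩
    obtain ⟨g₀, rfl⟩ := e.permCongrHom.surjective g
    refine ⟨g₀, hle ⟨(conj_blockGrp e hiff g₀).1 hg1, mem_alternatingGroup.2 ?_⟩, rfl⟩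
    rw [← hsign]
    exact mem_alternatingGroup.1 hg2
  obtain ⟨x, x', y, h1, h2, h3, g, hg, hge⟩ := exists_c3_six L' hle' ⟨h, hh, rfl⟩
    (fun hc => hnot ((conj_blockGrp e hiff h).1 hc))
  refine ⟨e.symm x, e.symm x', e.symm y, fun h => h1 (e.symm.injective h), ?_, ?_, ?_⟩
  · rw [← hblk, ← hblk, e.apply_symm_apply, e.apply_symm_apply, h2]
  · rw [← hblk, ← hblk, e.apply_symm_apply, e.apply_symm_apply]; exact h3
  · have : g = c3 (e.symm x) (e.symm x') (e.symm y) := e.permCongrHom.injective (by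
      rw [conj_c3, e.apply_symm_apply, e.apply_symm_apply, e.apply_symm_apply]; exact hge)
    exact this ▸ hg

/-- Preserving the halves `01|23` of four points. -/
def Keeps4 (g : Perm (Fin 4)) : Prop :=
  ∀ x y : Fin 4, x.val / 2 = y.val / 2 ↔ (g x).val / 2 = (g y).val / 2

instance : DecidablePred Keeps4 := fun g =>
  inferInstanceAs (Decidable (∀ x y : Fin 4, _))

set_option maxRecDepth 100000 in
theorem table4 : ∀ h : Perm (Fin 4), Perm.sign h = 1 → ¬ Keeps4 h → ∀ g : Perm (Fin 4),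
    Perm.sign g = 1 → Keeps4 g ∨ Keeps4 (g * h) ∨ Keeps4 (g * h⁻¹) := by
  decide +kernel

theorem alt_le_two_pairs {Ω : Type*} [Fintype Ω] [DecidableEq Ω] {f : Ω → Fin 2}
    (hf : ∀ i : Fin 2, Nat.card {x : Ω // f x = i} = 2) (L : Subgroup (Perm Ω))
    (hle : blockGrp f ⊓ alternatingGroup Ω ≤ L) {h : Perm Ω} (hh : h ∈ L)
    (hev : h ∈ alternatingGroup Ω) (hnot : h ∉ blockGrp f) : alternatingGroup Ω ≤ L := by
  obtain ⟨e₀, he₀⟩ := exists_coord hf
  let e : Ω ≃ Fin 4 := e₀.trans finProdFinEquiv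
  have hblk : ∀ x, (e x).val / 2 = (f x).val := fun x => by
    rw [← he₀ x]
    simp only [e, Equiv.trans_apply, finProdFinEquiv, Equiv.coe_fn_mk]
    omega
  have hK : ∀ g : Perm Ω, g ∈ blockGrp f ↔ Keeps4 (e.permCongrHom g) := fun g => by
    rw [← conj_blockGrp e (f' := fun x : Fin 4 => x.val / 2) (fun x y => by
      rw [hblk, hblk, Fin.val_inj]) g, mem_iff]
    rfl
  intro g hg
  have hs : ∀ k ∈ alternatingGroup Ω, Perm.sign (e.permCongrHom k) = 1 := fun k hk =>
    (sign_permCongr e k).trans hk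
  rcases table4 _ (hs h hev) (fun hc => hnot ((hK h).2 hc)) _ (hs g hg) with h1 | h1 | h1
  · exact hle ⟨(hK g).2 h1, hg⟩
  · rw [← map_mul] at h1
    simpa using mul_mem (hle ⟨(hK _).2 h1, (alternatingGroup Ω).mul_mem hg hev⟩) (inv_mem hh)
  · rw [← map_inv, ← map_mul] at h1
    simpa using mul_mem (hle ⟨(hK _).2 h1, (alternatingGroup Ω).mul_mem hg ((alternatingGroup Ω).inv_mem hev)⟩) hh

/-- The even partition stabiliser is maximal in the alternating group, except for four pairs. -/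
theorem isCoatom_even {Ω : Type*} [Fintype Ω] [DecidableEq Ω] {a b : ℕ} {f : Ω → Fin b}
    (hf : ∀ i : Fin b, Nat.card {x : Ω // f x = i} = a) (ha : 2 ≤ a) (hb : 2 ≤ b)
    (h8 : a ≠ 2 ∨ b ≠ 4) :
    IsCoatom ((blockGrp f ⊓ alternatingGroup Ω).subgroupOf (alternatingGroup Ω)) := by
  refine ⟨fun htop => ?_, fun L hL => ?_⟩
  · obtain ⟨u, hu⟩ := exists_outside hf (by omega) (⟨0, by omega⟩ : Fin b)
    obtain ⟨v, hv⟩ := exists_outside hf (by omega) (⟨1, by omega⟩ : Fin b)
    obtain ⟨u', hu', huu⟩ := exists_partner hf ha u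
    have hne : f u ≠ f v := by rw [hu, hv]; simp
    have h1 : u' ≠ v := fun e => hne (by rw [← huu, e])
    have h2 : u ≠ v := fun e => hne (congrArg f e)
    have hmem : c3 u u' v ∈ blockGrp f :=
      (Subgroup.subgroupOf_eq_top.1 htop (c3_sign hu'.symm h1)).1
    obtain ⟨a1, a2, -, -⟩ := c3_apply hu'.symm h2 h1
    have := (mem_iff.1 hmem u u').1 huu.symm
    rw [a1, a2, huu] at this
    exact hne this
  obtain ⟨hle, ⟨h, hev⟩, hhL, hhW⟩ := SetLike.lt_iff_le_and_exists.1 hL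
  have hnot : h ∉ blockGrp f := fun hc => hhW (Subgroup.mem_subgroupOf.2 ⟨hc, hev⟩)
  let L' := L.map (alternatingGroup Ω).subtype
  have hle' : blockGrp f ⊓ alternatingGroup Ω ≤ L' := fun g hg =>
    ⟨⟨g, hg.2⟩, hle (Subgroup.mem_subgroupOf.2 hg), rfl⟩
  have hh' : h ∈ L' := ⟨⟨h, hev⟩, hhL, rfl⟩
  suffices halt : alternatingGroup Ω ≤ L' by
    rw [eq_top_iff]
    rintro ⟨g, hg⟩ -
    obtain ⟨g', hg', e⟩ := halt hg
    exact (Subtype.ext e : g' = ⟨g, hg⟩) ▸ hg'
  rcases Nat.lt_or_ge 2 a with ha3 | ha2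
  · obtain ⟨x, x', y, h1, h2, h3, h4⟩ := exists_c3 hf ha3 L' hle' hh' hnot
    exact alt_le hf ha (Or.inl ha3) L' hle' h1 h2 h3 h4
  obtain rfl : a = 2 := by omega
  rcases Nat.lt_or_ge b 5 with hb4 | hb5
  · obtain rfl | rfl : b = 2 ∨ b = 3 := by omega
    · exact alt_le_two_pairs hf L' hle' hh' hev hnot
    · obtain ⟨x, x', y, h1, h2, h3, h4⟩ := exists_c3_three_pairs hf L' hle' hh' hnot
      exact alt_le hf le_rfl (Or.inr le_rfl) L' hle' h1 h2 h3 h4
  · obtain ⟨x, x', y, h1, h2, h3, h4⟩ := exists_c3_pairs hf rfl hb5 L' hle' hh' hnot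
    exact alt_le hf le_rfl (Or.inr (by omega)) L' hle' h1 h2 h3 h4

end CfsgLib.BlockMax
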