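import Cfsg.Agent.SimplePower.BlockSmall

/-! Four pairs among eight points and the affine overgroup. -/

set_option autoImplicit false
set_option linter.unusedSectionVars false

namespace CfsgLib.BlockMax

open Equiv Equiv.Perm

/-- Bitwise sum of three points. -/
def x3 (x y z : Fin 8) : Fin 8 := ⟨(x.val ^^^ y.val ^^^ z.val) % 8, Nat.mod_lt _ (by omega)⟩

/-- Affine bijections of the three-dimensional binary space. -/
def affGrp : Subgroup (Perm (Fin 8)) where
  carrier := {g | ∀ x y z, g (x3 x y z) = x3 (g x) (g y) (g z)}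
  one_mem' := fun _ _ _ => rfl
  mul_mem' {a b} ha hb := fun x y z => by
    show a (b (x3 x y z)) = _
    rw [hb, ha]; rfl
  inv_mem' {a} ha := fun x y z => by
    apply a.injective
    rw [ha, Perm.inv_def]
    simp only [Equiv.apply_symm_apply]

instance (g : Perm (Fin 8)) : Decidable (g ∈ affGrp) :=
  inferInstanceAs (Decidable (∀ x y z, g (x3 x y z) = x3 (g x) (g y) (g z)))

/-- The pair of a point. -/
def blk8 (x : Fin 8) : Fin 4 := ⟨x.val / 2, by omega⟩

/-- A permutation of the pairs, lifted. -/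
def lift8 (π : Perm (Fin 4)) : Perm (Fin 8) where
  toFun x := ⟨2 * (π (blk8 x)).val + x.val % 2, by omega⟩
  invFun x := ⟨2 * (π.symm (blk8 x)).val + x.val % 2, by omega⟩
  left_inv x := by
    apply Fin.ext
    have : blk8 ⟨2 * (π (blk8 x)).val + x.val % 2, by omega⟩ = π (blk8 x) :=
      Fin.ext (by simp only [blk8]; omega)
    simp only [this, Equiv.symm_apply_apply]
    simp only [blk8]
    omega
  right_inv x := by
    apply Fin.ext
    have : blk8 ⟨2 * (π.symm (blk8 x)).val + x.val % 2, by omega⟩ = π.symm (blk8 x) :=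
      Fin.ext (by simp only [blk8]; omega)
    simp only [this, Equiv.apply_symm_apply]
    simp only [blk8]
    omega

/-- Flips inside the pairs. -/
def flip8 (c : Fin 4 → Bool) : Perm (Fin 8) :=
  (if c 0 then swap 0 1 else 1) * ((if c 1 then swap 2 3 else 1) *
    ((if c 2 then swap 4 5 else 1) * (if c 3 then swap 6 7 else 1)))

set_option maxRecDepth 100000 in
theorem lift8_mem : ∀ π : Perm (Fin 4), lift8 π ∈ affGrp ∧ Perm.sign (lift8 π) = 1 := by
  decide +kernel

set_option maxRecDepth 100000 in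
theorem flip8_mem : ∀ c : Fin 4 → Bool, Perm.sign (flip8 c) = 1 → flip8 c ∈ affGrp := by
  decide +kernel

set_option maxRecDepth 100000 in
theorem flip8_apply : ∀ c : Fin 4 → Bool, ∀ x : Fin 8,
    (flip8 c x).val = if c (blk8 x) then 2 * (x.val / 2) + (1 - x.val % 2) else x.val := by
  decide +kernel

theorem le_affGrp : blockGrp blk8 ⊓ alternatingGroup (Fin 8) ≤ affGrp := by
  rintro g ⟨hg, hev⟩
  have hb := mem_iff.1 hg
  let p : Fin 4 → Fin 4 := fun i => blk8 (g ⟨2 * i.val, by omega⟩)
  have hp : Function.Injective p := by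
    intro i j e
    have := congrArg Fin.val ((hb _ _).2 e)
    simp only [blk8] at this
    exact Fin.ext (by omega)
  let π := Equiv.ofBijective p (Finite.injective_iff_bijective.1 hp)
  let k := (lift8 π)⁻¹ * g
  have hgx : ∀ x, blk8 (g x) = π (blk8 x) := fun x => by
    show blk8 (g x) = blk8 (g ⟨2 * (x.val / 2), by omega⟩)
    exact (hb _ _).1 (Fin.ext (by simp only [blk8]; omega))
  have hkv : ∀ x, (k x).val / 2 = x.val / 2 := by
    intro x
    show (2 * (π.symm (blk8 (g x))).val + (g x).val % 2) / 2 = _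
    rw [hgx, Equiv.symm_apply_apply]
    simp only [blk8]
    omega
  let c : Fin 4 → Bool := fun i => decide ((k ⟨2 * i.val, by omega⟩).val ≠ 2 * i.val)
  have hk : k = flip8 c := by
    refine Equiv.ext fun x => Fin.ext ?_
    rw [flip8_apply]
    have h1 := hkv x
    have h2 := hkv ⟨2 * (x.val / 2), by omega⟩
    simp only at h2
    have h3 : (k x).val = (k ⟨2 * (x.val / 2), by omega⟩).val → x.val = 2 * (x.val / 2) := fun e =>
      congrArg Fin.val (k.injective (Fin.ext e))
    by_cases hx : x.val = 2 * (x.val / 2)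
    · have h4 : (k ⟨2 * (x.val / 2), by omega⟩).val = (k x).val :=
        congrArg (fun y => (k y).val) (Fin.ext hx.symm)
      simp only [c, blk8, decide_eq_true_eq]
      split <;> omega
    · have h4 : (k x).val ≠ (k ⟨2 * (x.val / 2), by omega⟩).val := fun e => hx (h3 e)
      simp only [c, blk8, decide_eq_true_eq]
      split <;> omega
  have hsk : Perm.sign (flip8 c) = 1 := by
    rw [← hk, map_mul, map_inv, (lift8_mem π).2, mem_alternatingGroup.1 hev]; rfl
  have : g = lift8 π * flip8 c := by rw [← hk]; simp [k]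
  rw [this]
  exact mul_mem (lift8_mem π).1 (flip8_mem c hsk)

set_option maxRecDepth 100000 in
theorem affine_extra : (swap 1 2 * swap 5 6 : Perm (Fin 8)) ∈ affGrp ∧
    Perm.sign (swap 1 2 * swap 5 6 : Perm (Fin 8)) = 1 ∧
    blk8 ((swap 1 2 * swap 5 6 : Perm (Fin 8)) 0) ≠ blk8 ((swap 1 2 * swap 5 6 : Perm (Fin 8)) 1) ∧
    (swap 0 1 * swap 1 2 : Perm (Fin 8)) ∉ affGrp ∧
    Perm.sign (swap 0 1 * swap 1 2 : Perm (Fin 8)) = 1 := by
  decide +kernel

theorem not_isCoatom_four_pairs {Ω : Type*} [Fintype Ω] [DecidableEq Ω] {f : Ω → Fin 4}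
    (hf : ∀ i : Fin 4, Nat.card {x : Ω // f x = i} = 2) :
    ¬ IsCoatom ((blockGrp f ⊓ alternatingGroup Ω).subgroupOf (alternatingGroup Ω)) := by
  intro hco
  obtain ⟨e₀, he₀⟩ := exists_coord hf
  let e : Ω ≃ Fin 8 := e₀.trans finProdFinEquiv
  have hblk : ∀ x, blk8 (e x) = f x := fun x => by
    rw [← he₀ x]
    apply Fin.ext
    simp only [blk8, e, Equiv.trans_apply, finProdFinEquiv, Equiv.coe_fn_mk]
    omega
  have hiff := conj_blockGrp e (f := f) (f' := blk8) (fun x y => by rw [hblk, hblk])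
  obtain ⟨h1, h2, h3, h4, h5⟩ := affine_extra
  let K := (affGrp.comap e.permCongrHom.toMonoidHom).subgroupOf (alternatingGroup Ω)
  have hsign : ∀ g : Perm Ω, Perm.sign (e.permCongrHom g) = Perm.sign g := fun g =>
    sign_permCongr e g
  have hle : (blockGrp f ⊓ alternatingGroup Ω).subgroupOf (alternatingGroup Ω) ≤ K := by
    intro g hg
    rw [Subgroup.mem_subgroupOf] at hg ⊢
    exact le_affGrp ⟨(hiff _).2 hg.1, mem_alternatingGroup.2 ((hsign _).trans hg.2)⟩
  obtain ⟨u, hu⟩ := e.permCongrHom.surjective (swap 1 2 * swap 5 6 : Perm (Fin 8))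
  obtain ⟨v, hv⟩ := e.permCongrHom.surjective (swap 0 1 * swap 1 2 : Perm (Fin 8))
  have huA : u ∈ alternatingGroup Ω :=
    mem_alternatingGroup.2 (by rw [← hsign, hu, h2])
  have hvA : v ∈ alternatingGroup Ω :=
    mem_alternatingGroup.2 (by rw [← hsign, hv, h5])
  have huK : (⟨u, huA⟩ : alternatingGroup Ω) ∈ K := by
    rw [Subgroup.mem_subgroupOf]
    show e.permCongrHom u ∈ affGrp
    rw [hu]; exact h1
  have hlt : (blockGrp f ⊓ alternatingGroup Ω).subgroupOf (alternatingGroup Ω) < K := by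
    refine lt_of_le_of_ne hle fun heq => ?_
    have hb := (Subgroup.mem_subgroupOf.1 (heq ▸ huK : (⟨u, huA⟩ : alternatingGroup Ω) ∈
      (blockGrp f ⊓ alternatingGroup Ω).subgroupOf (alternatingGroup Ω))).1
    have := mem_iff.1 ((hiff u).2 hb) 0 1
    rw [hu] at this
    exact h3 (this.1 rfl)
  have hvK : (⟨v, hvA⟩ : alternatingGroup Ω) ∈ K := by rw [hco.2 K hlt]; trivial
  rw [Subgroup.mem_subgroupOf] at hvK
  exact h4 (hv ▸ hvK)

end CfsgLib.BlockMax
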