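import Mathlib.GroupTheory.Subgroup.Simple
import Mathlib.GroupTheory.Commutator.Basic
import Mathlib.Algebra.Group.Pi.Lemmas
import Mathlib.GroupTheory.NoncommPiCoprod
import Mathlib.Data.Fintype.Basic

/-! Normal subgroups of powers of a nonabelian simple group. -/

set_option autoImplicit false

namespace CfsgLib.SimplePower

variable {S : Type*} [Group S] [IsSimpleGroup S] {n : ℕ}

theorem center_trivial (hS : ¬ IsMulCommutative S) {a : S} (ha : a ≠ 1) : ∃ s, s * a ≠ a * s := by
  by_contra h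
  push Not at h
  have hc : a ∈ Subgroup.center S := Subgroup.mem_center_iff.2 h
  rcases (inferInstance : (Subgroup.center S).Normal).eq_bot_or_eq_top with hb | ht
  · rw [hb, Subgroup.mem_bot] at hc; exact ha hc
  · exact hS ⟨⟨fun x y => Subgroup.mem_center_iff.1 (ht ▸ Subgroup.mem_top y : y ∈ Subgroup.center S) x⟩⟩

theorem single_mem (hS : ¬ IsMulCommutative S) (N : Subgroup (Fin n → S)) [hN : N.Normal]
    {x : Fin n → S} (hx : x ∈ N) {i : Fin n} (hi : x i ≠ 1) (s : S) : Pi.mulSingle i s ∈ N := by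
  obtain ⟨t, ht⟩ := center_trivial hS hi
  let A : Subgroup S := N.comap (MonoidHom.mulSingle (fun _ : Fin n => S) i)
  have hA : A.Normal := ⟨fun a ha g => by
    show Pi.mulSingle i (g * a * g⁻¹) ∈ N
    rw [Pi.mulSingle_mul, Pi.mulSingle_mul, Pi.mulSingle_inv]
    exact hN.conj_mem _ ha _⟩
  have hmem : t * x i * t⁻¹ * (x i)⁻¹ ∈ A := by
    show Pi.mulSingle i (t * x i * t⁻¹ * (x i)⁻¹) ∈ N
    have h1 : Pi.mulSingle i t * x * (Pi.mulSingle i t)⁻¹ * x⁻¹ ∈ N :=
      N.mul_mem (hN.conj_mem x hx _) (N.inv_mem hx)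
    convert h1 using 1
    funext j
    rcases eq_or_ne j i with rfl | h
    · simp
    · simp [h]
  rcases hA.eq_bot_or_eq_top with hb | htop
  · rw [hb, Subgroup.mem_bot, mul_inv_eq_one, mul_inv_eq_iff_eq_mul] at hmem
    exact absurd hmem ht
  · exact (htop ▸ Subgroup.mem_top s : s ∈ A)

theorem exists_finset (hS : ¬ IsMulCommutative S) (N : Subgroup (Fin n → S)) [N.Normal] :
    ∃ T : Finset (Fin n), ∀ x : Fin n → S, x ∈ N ↔ ∀ i, i ∉ T → x i = 1 := by
  classical
  refine ⟨Finset.univ.filter fun i => ∃ x ∈ N, x i ≠ 1, fun x => ⟨fun hx i hi => ?_, fun h => ?_⟩⟩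
  · by_contra hne
    exact hi (Finset.mem_filter.2 ⟨Finset.mem_univ i, x, hx, hne⟩)
  · have hsing : ∀ i, Pi.mulSingle i (x i) ∈ N := by
      intro i
      by_cases hi : x i = 1
      · rw [hi, Pi.mulSingle_one]; exact N.one_mem
      · obtain ⟨y, hy, hyi⟩ : ∃ y ∈ N, y i ≠ 1 := by
          by_contra hc
          exact hi (h i fun hm => hc (Finset.mem_filter.1 hm).2)
        exact single_mem hS N hy hyi _
    rw [← Finset.noncommProd_mulSingle x]
    exact Subgroup.noncommProd_mem _ _ fun i _ => hsing i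

end CfsgLib.SimplePower
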