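import Mathlib.LinearAlgebra.FiniteDimensional.Lemmas
import Mathlib.LinearAlgebra.Eigenspace.Basic
import Mathlib.Algebra.DirectSum.Module

/-! Dimensions of invariant subspaces. -/

set_option autoImplicit false

namespace CfsgLib.InvariantDims

open Module

variable {F V : Type*} [Field F] [AddCommGroup V] [Module F V] [FiniteDimensional F V]
variable {f : V →ₗ[F] V} {s a : ℕ} {U : Fin s → Submodule F V} {C : Submodule F V}

theorem dims (hC : C.map f ≤ C) (hUinv : ∀ j, (U j).map f ≤ U j) (hUdim : ∀ j, finrank F (U j) = a)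
    (hUirr : ∀ j, ∀ W : Submodule F V, W ≤ U j → W.map f ≤ W → W = ⊥ ∨ W = U j)
    (T : Finset (Fin s)) : ∀ W : Submodule F V, W.map f ≤ W → W ≤ C ⊔ T.sup U →
      ∃ i j, i ≤ finrank F C ∧ finrank F W = i + j * a := by
  induction T using Finset.induction_on with
  | empty =>
    intro W _ hle
    refine ⟨_, 0, ?_, by rw [Nat.zero_mul, Nat.add_zero]⟩
    rw [Finset.sup_empty, sup_bot_eq] at hle
    exact Submodule.finrank_mono hle
  | @insert k T hk ih =>
    intro W hW hle
    set P := C ⊔ T.sup U with hP
    have hPinv : P.map f ≤ P := by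
      rw [hP, Submodule.map_sup]
      refine sup_le_sup hC ?_
      clear hP ih hk hle
      induction T using Finset.induction_on with
      | empty => simp
      | insert b T hb ih =>
        rw [Finset.sup_insert, Submodule.map_sup]
        exact sup_le_sup (hUinv b) ih
    have hle' : W ≤ P ⊔ U k := by
      rw [Finset.sup_insert] at hle
      rw [hP, sup_assoc, sup_comm (T.sup U)]
      exact hle
    set X := W ⊔ P with hX
    have hXinv : (X ⊓ U k).map f ≤ X ⊓ U k := by
      refine (Submodule.map_inf_le _).trans (inf_le_inf ?_ (hUinv k))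
      rw [hX, Submodule.map_sup]
      exact sup_le_sup hW hPinv
    have hXle : X ≤ P ⊔ U k := sup_le hle' le_sup_left
    have hXeq : X = P ⊔ (X ⊓ U k) := by
      rw [inf_comm, ← sup_inf_assoc_of_le (U k) (le_sup_right : P ≤ X), inf_eq_right.2 hXle]
    obtain ⟨i, j, hi, hj⟩ := ih (W ⊓ P) ((Submodule.map_inf_le _).trans (inf_le_inf hW hPinv))
      inf_le_right
    have h1 := Submodule.finrank_sup_add_finrank_inf_eq W P
    rw [← hX] at h1
    rcases hUirr k _ inf_le_right hXinv with hb | ht
    · rw [hb, sup_bot_eq] at hXeq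
      rw [hXeq] at h1
      exact ⟨i, j, hi, by omega⟩
    · rw [ht] at hXeq
      have h2 := Submodule.finrank_sup_add_finrank_inf_eq P (U k)
      rw [← hXeq, hUdim] at h2
      rcases hUirr k (P ⊓ U k) inf_le_right
          ((Submodule.map_inf_le _).trans (inf_le_inf hPinv (hUinv k))) with hb2 | ht2
      · rw [hb2, finrank_bot] at h2
        exact ⟨i, j + 1, hi, by rw [Nat.add_mul, Nat.one_mul]; omega⟩
      · rw [ht2, hUdim] at h2
        exact ⟨i, j, hi, by omega⟩

theorem main (hUinv : ∀ j, (U j).map f ≤ U j) (hUdim : ∀ j, finrank F (U j) = a) (ha : 1 ≤ a)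
    (hUirr : ∀ j, ∀ W : Submodule F V, W ≤ U j → W.map f ≤ W → W = ⊥ ∨ W = U j)
    (hdec : DirectSum.IsInternal (fun o : Option (Fin s) => o.elim (Module.End.eigenspace f 1) U))
    (m : ℕ) (hmV : m < finrank F V) :
    (∃ W : Submodule F V, finrank F ↥W = m ∧ W.map f ≤ W) ↔
    (m ≤ finrank F ↥(Module.End.eigenspace f 1) ∨
      (a ≤ m ∧ m % a ≤ finrank F ↥(Module.End.eigenspace f 1))) := by
  classical
  set C := Module.End.eigenspace f 1 with hCdef
  obtain ⟨hind, htop⟩ := (DirectSum.isInternal_submodule_iff_iSupIndep_and_iSup_eq_top _).1 hdec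
  have hfix : ∀ x ∈ C, f x = x := fun x hx => by
    simpa using Module.End.mem_eigenspace_iff.1 hx
  have hsub : ∀ D ≤ C, D.map f ≤ D := by
    rintro D hD _ ⟨x, hx, rfl⟩
    rwa [hfix x (hD hx)]
  have hcov : (⊤ : Submodule F V) ≤ C ⊔ Finset.univ.sup U := by
    rw [← htop]
    refine iSup_le fun o => ?_
    cases o with
    | none => exact le_sup_left
    | some j => exact (Finset.le_sup (Finset.mem_univ j)).trans le_sup_right
  constructor
  · rintro ⟨W, hm, hW⟩
    obtain ⟨i, j, hi, hj⟩ := dims (hsub C le_rfl) hUinv hUdim hUirr Finset.univ W hW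
      (le_top.trans hcov)
    rw [hm] at hj
    rcases Nat.eq_zero_or_pos j with rfl | hjp
    · exact Or.inl (by omega)
    · refine Or.inr ⟨by have := Nat.le_mul_of_pos_left a hjp; omega, ?_⟩
      rw [hj, Nat.add_mul_mod_self_right]
      exact (Nat.mod_le i a).trans hi
  · intro h
    have key : ∀ D ≤ C, ∀ T : Finset (Fin s), finrank F ↥(D ⊔ T.sup U) = finrank F D + T.card * a ∧
        (D ⊔ T.sup U).map f ≤ D ⊔ T.sup U := by
      intro D hD T
      induction T using Finset.induction_on with
      | empty =>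
        rw [Finset.sup_empty, sup_bot_eq, Finset.card_empty, Nat.zero_mul, Nat.add_zero]
        exact ⟨rfl, hsub D hD⟩
      | @insert k T hk ih =>
        have e : D ⊔ (insert k T).sup U = U k ⊔ (D ⊔ T.sup U) := by
          rw [Finset.sup_insert, sup_left_comm]
        have hdis : U k ⊓ (D ⊔ T.sup U) = ⊥ := by
          refine eq_bot_iff.2 ((inf_le_inf_left _ ?_).trans (le_of_eq (hind (some k)).eq_bot))
          refine sup_le (hD.trans ?_) (Finset.sup_le fun j hj => ?_)
          · exact le_iSup₂_of_le (f := fun o (_ : o ≠ some k) =>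
              o.elim C U) none (by simp) le_rfl
          · exact le_iSup₂_of_le (f := fun o (_ : o ≠ some k) =>
              o.elim C U) (some j) (fun e => hk (Option.some.inj e ▸ hj)) le_rfl
        have h2 := Submodule.finrank_sup_add_finrank_inf_eq (U k) (D ⊔ T.sup U)
        rw [hdis, finrank_bot, ih.1, hUdim, Nat.add_zero] at h2
        rw [e, Finset.card_insert_of_notMem hk, Nat.add_mul, Nat.one_mul]
        refine ⟨by omega, ?_⟩
        rw [Submodule.map_sup]
        exact sup_le_sup (hUinv k) ih.2
    have hV : finrank F V = finrank F C + s * a := by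
      have := (key C le_rfl Finset.univ).1
      rw [top_le_iff.1 hcov, finrank_top, Finset.card_univ, Fintype.card_fin] at this
      exact this
    obtain ⟨i, j, hi, hjs, e⟩ : ∃ i j, i ≤ finrank F C ∧ j ≤ s ∧ m = i + j * a := by
      rcases h with h | ⟨-, h⟩
      · exact ⟨m, 0, h, Nat.zero_le _, by simp⟩
      · rcases Nat.lt_or_ge s (m / a) with hlt | hge
        · have := Nat.mul_le_mul_right a hlt.le
          have := Nat.div_mul_le_self m a
          exact ⟨m - s * a, s, by omega, le_rfl, by omega⟩
        · exact ⟨m % a, m / a, h, hge, by rw [Nat.mod_add_div']⟩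
    obtain ⟨b, hb⟩ : ∃ D : Submodule F V, D ≤ C ∧ finrank F D = i := by
      let v : Fin i → C := (Module.finBasis F C) ∘ Fin.castLE hi
      obtain ⟨D, hD⟩ : ∃ D : Submodule F C, finrank F D = i := by
        refine ⟨Submodule.span F (Set.range v), ?_⟩
        rw [show v = (Module.finBasis F C) ∘ Fin.castLE hi from rfl,
          finrank_span_eq_card ((Module.finBasis F C).linearIndependent.comp _
          (Fin.castLE_injective hi)), Fintype.card_fin]
      exact ⟨D.map C.subtype, Submodule.map_subtype_le _ _, by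
        rw [Submodule.finrank_map_subtype_eq, hD]⟩
    obtain ⟨T, -, hT⟩ := Finset.exists_subset_card_eq
      (s := (Finset.univ : Finset (Fin s))) (n := j) (by simpa using hjs)
    refine ⟨b ⊔ T.sup U, ?_, (key b hb.1 T).2⟩
    rw [(key b hb.1 T).1, hb.2, hT, e]

end CfsgLib.InvariantDims
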